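import Cfsg.Agent.Lib.Grp.Ru.Defs

set_option autoImplicit false
set_option maxRecDepth 100000
set_option Elab.async false

namespace Cfsg.Agent.CG.Ru

theorem c0 : allRange (chkBase 4060 16 (appT tabs t80 0xffff) 0 (inv 0)) 0 4060 = true := by decide +kernel
theorem c1 : allRange (chkBase 4060 16 (appT tabs t80 0xffff) 1 (inv 1)) 0 4060 = true := by decide +kernel
theorem c2 : allRange (chkBase 4060 16 (appT tabs t80 0xffff) 2 (inv 2)) 0 4060 = true := by decide +kernel
theorem c3 : chkDef 16 (appT tabs t80 0xffff) 3 (slp 3) 0 4060 = true := by decide +kernel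
theorem c4 : chkDef 16 (appT tabs t80 0xffff) 4 (slp 4) 0 4060 = true := by decide +kernel
theorem c5 : chkDef 16 (appT tabs t80 0xffff) 5 (slp 5) 0 4060 = true := by decide +kernel
theorem c6 : chkDef 16 (appT tabs t80 0xffff) 6 (slp 6) 0 4060 = true := by decide +kernel
theorem c7 : chkDef 16 (appT tabs t80 0xffff) 7 (slp 7) 0 4060 = true := by decide +kernel
theorem c8 : chkDef 16 (appT tabs t80 0xffff) 8 (slp 8) 0 4060 = true := by decide +kernel
theorem c9 : chkDef 16 (appT tabs t80 0xffff) 9 (slp 9) 0 4060 = true := by decide +kernel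
theorem c10 : chkDef 16 (appT tabs t80 0xffff) 10 (slp 10) 0 4060 = true := by decide +kernel
theorem c11 : chkDef 16 (appT tabs t80 0xffff) 11 (slp 11) 0 4060 = true := by decide +kernel
theorem c12 : chkDef 16 (appT tabs t80 0xffff) 12 (slp 12) 0 4060 = true := by decide +kernel
theorem c13 : chkDef 16 (appT tabs t80 0xffff) 13 (slp 13) 0 4060 = true := by decide +kernel
theorem c14 : chkDef 16 (appT tabs t80 0xffff) 14 (slp 14) 0 4060 = true := by decide +kernel
theorem c15 : chkDef 16 (appT tabs t80 0xffff) 15 (slp 15) 0 4060 = true := by decide +kernel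
theorem c16 : chkDef 16 (appT tabs t80 0xffff) 16 (slp 16) 0 4060 = true := by decide +kernel
theorem c17 : chkDef 16 (appT tabs t80 0xffff) 17 (slp 17) 0 4060 = true := by decide +kernel
theorem c18 : chkDef 16 (appT tabs t80 0xffff) 18 (slp 18) 0 4060 = true := by decide +kernel
theorem c19 : chkDef 16 (appT tabs t80 0xffff) 19 (slp 19) 0 4060 = true := by decide +kernel
theorem c20 : chkDef 16 (appT tabs t80 0xffff) 20 (slp 20) 0 4060 = true := by decide +kernel
theorem c21 : chkDef 16 (appT tabs t80 0xffff) 21 (slp 21) 0 4060 = true := by decide +kernel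
theorem c22 : chkDef 16 (appT tabs t80 0xffff) 22 (slp 22) 0 4060 = true := by decide +kernel
theorem c23 : chkDef 16 (appT tabs t80 0xffff) 23 (slp 23) 0 4060 = true := by decide +kernel
theorem c24 : chkDef 16 (appT tabs t80 0xffff) 24 (slp 24) 0 4060 = true := by decide +kernel
theorem c25 : chkDef 16 (appT tabs t80 0xffff) 25 (slp 25) 0 4060 = true := by decide +kernel
theorem c26 : chkDef 16 (appT tabs t80 0xffff) 26 (slp 26) 0 4060 = true := by decide +kernel
theorem c27 : chkDef 16 (appT tabs t80 0xffff) 27 (slp 27) 0 4060 = true := by decide +kernel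
theorem c28 : chkDef 16 (appT tabs t80 0xffff) 28 (slp 28) 0 4060 = true := by decide +kernel
theorem c29 : chkDef 16 (appT tabs t80 0xffff) 29 (slp 29) 0 4060 = true := by decide +kernel
theorem c30 : chkDef 16 (appT tabs t80 0xffff) 30 (slp 30) 0 4060 = true := by decide +kernel
theorem c31 : chkDef 16 (appT tabs t80 0xffff) 31 (slp 31) 0 4060 = true := by decide +kernel
theorem c32 : chkDef 16 (appT tabs t80 0xffff) 32 (slp 32) 0 4060 = true := by decide +kernel
theorem c33 : chkDef 16 (appT tabs t80 0xffff) 33 (slp 33) 0 4060 = true := by decide +kernel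
theorem c34 : chkDef 16 (appT tabs t80 0xffff) 34 (slp 34) 0 4060 = true := by decide +kernel
theorem c35 : chkDef 16 (appT tabs t80 0xffff) 35 (slp 35) 0 4060 = true := by decide +kernel
theorem c36 : chkDef 16 (appT tabs t80 0xffff) 36 (slp 36) 0 4060 = true := by decide +kernel
theorem c37 : chkDef 16 (appT tabs t80 0xffff) 37 (slp 37) 0 4060 = true := by decide +kernel
theorem c38 : chkDef 16 (appT tabs t80 0xffff) 38 (slp 38) 0 4060 = true := by decide +kernel
theorem c39 : chkDef 16 (appT tabs t80 0xffff) 39 (slp 39) 0 4060 = true := by decide +kernel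
theorem c40 : chkDef 16 (appT tabs t80 0xffff) 40 (slp 40) 0 4060 = true := by decide +kernel
theorem c41 : chkDef 16 (appT tabs t80 0xffff) 41 (slp 41) 0 4060 = true := by decide +kernel
theorem c42 : chkDef 16 (appT tabs t80 0xffff) 42 (slp 42) 0 4060 = true := by decide +kernel
theorem c43 : chkDef 16 (appT tabs t80 0xffff) 43 (slp 43) 0 4060 = true := by decide +kernel
theorem c44 : chkDef 16 (appT tabs t80 0xffff) 44 (slp 44) 0 4060 = true := by decide +kernel
theorem c45 : chkDef 16 (appT tabs t80 0xffff) 45 (slp 45) 0 4060 = true := by decide +kernel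
theorem c46 : chkDef 16 (appT tabs t80 0xffff) 46 (slp 46) 0 4060 = true := by decide +kernel
theorem c47 : chkDef 16 (appT tabs t80 0xffff) 47 (slp 47) 0 4060 = true := by decide +kernel
theorem c48 : chkDef 16 (appT tabs t80 0xffff) 48 (slp 48) 0 4060 = true := by decide +kernel
theorem c49 : chkDef 16 (appT tabs t80 0xffff) 49 (slp 49) 0 4060 = true := by decide +kernel
theorem c50 : chkDef 16 (appT tabs t80 0xffff) 50 (slp 50) 0 4060 = true := by decide +kernel
theorem c51 : chkDef 16 (appT tabs t80 0xffff) 51 (slp 51) 0 4060 = true := by decide +kernel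
theorem c52 : chkDef 16 (appT tabs t80 0xffff) 52 (slp 52) 0 4060 = true := by decide +kernel
theorem c53 : chkDef 16 (appT tabs t80 0xffff) 53 (slp 53) 0 4060 = true := by decide +kernel
theorem c54 : chkDef 16 (appT tabs t80 0xffff) 54 (slp 54) 0 4060 = true := by decide +kernel
theorem c55 : chkDef 16 (appT tabs t80 0xffff) 55 (slp 55) 0 4060 = true := by decide +kernel
theorem c56 : chkDef 16 (appT tabs t80 0xffff) 56 (slp 56) 0 4060 = true := by decide +kernel
theorem c57 : chkDef 16 (appT tabs t80 0xffff) 57 (slp 57) 0 4060 = true := by decide +kernel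
theorem c58 : chkDef 16 (appT tabs t80 0xffff) 58 (slp 58) 0 4060 = true := by decide +kernel
theorem c59 : chkDef 16 (appT tabs t80 0xffff) 59 (slp 59) 0 4060 = true := by decide +kernel
theorem c60 : chkDef 16 (appT tabs t80 0xffff) 60 (slp 60) 0 4060 = true := by decide +kernel
theorem c61 : chkDef 16 (appT tabs t80 0xffff) 61 (slp 61) 0 4060 = true := by decide +kernel
theorem c62 : chkDef 16 (appT tabs t80 0xffff) 62 (slp 62) 0 4060 = true := by decide +kernel
theorem c63 : chkDef 16 (appT tabs t80 0xffff) 63 (slp 63) 0 4060 = true := by decide +kernel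
theorem c64 : chkDef 16 (appT tabs t80 0xffff) 64 (slp 64) 0 4060 = true := by decide +kernel
theorem c65 : chkDef 16 (appT tabs t80 0xffff) 65 (slp 65) 0 4060 = true := by decide +kernel
theorem c66 : chkDef 16 (appT tabs t80 0xffff) 66 (slp 66) 0 4060 = true := by decide +kernel
theorem c67 : chkDef 16 (appT tabs t80 0xffff) 67 (slp 67) 0 4060 = true := by decide +kernel
theorem c68 : chkDef 16 (appT tabs t80 0xffff) 68 (slp 68) 0 4060 = true := by decide +kernel
theorem c69 : chkDef 16 (appT tabs t80 0xffff) 69 (slp 69) 0 4060 = true := by decide +kernel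
theorem c70 : chkDef 16 (appT tabs t80 0xffff) 70 (slp 70) 0 4060 = true := by decide +kernel
theorem c71 : chkDef 16 (appT tabs t80 0xffff) 71 (slp 71) 0 4060 = true := by decide +kernel
theorem c72 : chkDef 16 (appT tabs t80 0xffff) 72 (slp 72) 0 4060 = true := by decide +kernel
theorem c73 : chkDef 16 (appT tabs t80 0xffff) 73 (slp 73) 0 4060 = true := by decide +kernel
theorem c74 : chkDef 16 (appT tabs t80 0xffff) 74 (slp 74) 0 4060 = true := by decide +kernel
theorem c75 : chkDef 16 (appT tabs t80 0xffff) 75 (slp 75) 0 4060 = true := by decide +kernel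
theorem c76 : chkDef 16 (appT tabs t80 0xffff) 76 (slp 76) 0 4060 = true := by decide +kernel
theorem c77 : chkDef 16 (appT tabs t80 0xffff) 77 (slp 77) 0 4060 = true := by decide +kernel
theorem c78 : chkDef 16 (appT tabs t80 0xffff) 78 (slp 78) 0 4060 = true := by decide +kernel
theorem c79 : chkDef 16 (appT tabs t80 0xffff) 79 (slp 79) 0 4060 = true := by decide +kernel
theorem c80 : chkDef 16 (appT tabs t80 0xffff) 80 (false, []) 0 4060 = true := by decide +kernel
theorem c81 : mc0.chk (appT tabs t80 0xffff) 1 4059 = true := by decide +kernel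
theorem c82 : mc1.chk (appT tabs t80 0xffff) 1 1754 = true := by decide +kernel
theorem c83 : mc2.chk (appT tabs t80 0xffff) 1 9 = true := by decide +kernel
theorem c84 : mc3.chk (appT tabs t80 0xffff) 1 7 = true := by decide +kernel
theorem c85 : mc4.chk (appT tabs t80 0xffff) 1 1 = true := by decide +kernel
theorem c86 : mc5.chk (appT tabs t80 0xffff) 1 3 = true := by decide +kernel
theorem c87 : mc6.chk (appT tabs t80 0xffff) 1 1 = true := by decide +kernel
theorem c88 : mc7.chk (appT tabs t80 0xffff) 1 3 = true := by decide +kernel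
theorem c89 : mc8.chk (appT tabs t80 0xffff) 1 1 = true := by decide +kernel
theorem c90 : mc9.chk (appT tabs t80 0xffff) 1 1 = true := by decide +kernel
theorem c91 : okcb 4060 16 (bases mc) = true := by decide +kernel
theorem c92 : headAll (appT tabs t80 0xffff) mc [] = true := by decide +kernel
theorem c93 : tc0.head tcR = true := by decide +kernel
theorem c94 : tc0.chk 44 0 4060 = true := by decide +kernel
theorem c95 : tc0.chk 45 0 4060 = true := by decide +kernel
theorem c96 : tc0.chk 46 0 4060 = true := by decide +kernel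
theorem c97 : tc0.chk 47 0 4060 = true := by decide +kernel
theorem c98 : tc0.chk 48 0 4060 = true := by decide +kernel
theorem c99 : tc0.chk 49 0 4060 = true := by decide +kernel
theorem c100 : tc0.chk 50 0 4060 = true := by decide +kernel
theorem c101 : tc0.chk 51 0 4060 = true := by decide +kernel
theorem c102 : tc0.chk 52 0 4060 = true := by decide +kernel
theorem c103 : tc0.chk 53 0 4060 = true := by decide +kernel
theorem c104 : tc0.chk 54 0 4060 = true := by decide +kernel
theorem c105 : tc0.chk 55 0 4060 = true := by decide +kernel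
theorem c106 : tc0.chk 56 0 4060 = true := by decide +kernel
theorem c107 : tc0.chk 57 0 4060 = true := by decide +kernel
theorem c108 : tc0.chk 58 0 4060 = true := by decide +kernel
theorem c109 : tc0.chk 59 0 4060 = true := by decide +kernel
theorem c110 : tc1.head tcR = true := by decide +kernel
theorem c111 : allL (fun a => tc1.chk a 0 tc1.N) tc1.S = true := by decide +kernel
theorem c112 : tc2.head tcR = true := by decide +kernel
theorem c113 : allL (fun a => tc2.chk a 0 tc2.N) tc2.S = true := by decide +kernel
theorem c114 : tc3.head tcR = true := by decide +kernel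
theorem c115 : allL (fun a => tc3.chk a 0 tc3.N) tc3.S = true := by decide +kernel
theorem c116 : tc4.head tcR = true := by decide +kernel
theorem c117 : allL (fun a => tc4.chk a 0 tc4.N) tc4.S = true := by decide +kernel
theorem c118 : tc5.head tcR = true := by decide +kernel
theorem c119 : allL (fun a => tc5.chk a 0 tc5.N) tc5.S = true := by decide +kernel
theorem c120 : tc6.head tcR = true := by decide +kernel
theorem c121 : allL (fun a => tc6.chk a 0 tc6.N) tc6.S = true := by decide +kernel
theorem c122 : tc7.head tcR = true := by decide +kernel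
theorem c123 : allL (fun a => tc7.chk a 0 tc7.N) tc7.S = true := by decide +kernel
theorem c124 : tc8.head tcR = true := by decide +kernel
theorem c125 : allL (fun a => tc8.chk a 0 tc8.N) tc8.S = true := by decide +kernel
theorem c126 : tc9.head tcR = true := by decide +kernel
theorem c127 : allL (fun a => tc9.chk a 0 tc9.N) tc9.S = true := by decide +kernel
theorem c128 : tcLink tc [] [44,45,46,47,48,49,50,51,52,53,54,55,56,57,58,59] = true := by decide +kernel
theorem c129 : oneAll 16 (appT tabs t80 0xffff) [44,44] 0 4060 = true := by decide +kernel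
theorem c130 : oneAll 16 (appT tabs t80 0xffff) [45,46] 0 4060 = true := by decide +kernel
theorem c131 : oneAll 16 (appT tabs t80 0xffff) [46,45] 0 4060 = true := by decide +kernel
theorem c132 : oneAll 16 (appT tabs t80 0xffff) [45,45,44] 0 4060 = true := by decide +kernel
theorem c133 : oneAll 16 (appT tabs t80 0xffff) [47,47] 0 4060 = true := by decide +kernel
theorem c134 : oneAll 16 (appT tabs t80 0xffff) [48,48] 0 4060 = true := by decide +kernel
theorem c135 : oneAll 16 (appT tabs t80 0xffff) [47,44,47,44] 0 4060 = true := by decide +kernel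
theorem c136 : oneAll 16 (appT tabs t80 0xffff) [48,44,48,44] 0 4060 = true := by decide +kernel
theorem c137 : oneAll 16 (appT tabs t80 0xffff) [47,45,47,46] 0 4060 = true := by decide +kernel
theorem c138 : oneAll 16 (appT tabs t80 0xffff) [48,45,48,46] 0 4060 = true := by decide +kernel
theorem c139 : oneAll 16 (appT tabs t80 0xffff) [47,48,47,48] 0 4060 = true := by decide +kernel
theorem c140 : oneAll 16 (appT tabs t80 0xffff) [49,50] 0 4060 = true := by decide +kernel
theorem c141 : oneAll 16 (appT tabs t80 0xffff) [50,49] 0 4060 = true := by decide +kernel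
theorem c142 : oneAll 16 (appT tabs t80 0xffff) [50,44,49,44] 0 4060 = true := by decide +kernel
theorem c143 : oneAll 16 (appT tabs t80 0xffff) [50,47,49,47] 0 4060 = true := by decide +kernel
theorem c144 : oneAll 16 (appT tabs t80 0xffff) [50,48,49,48] 0 4060 = true := by decide +kernel
theorem c145 : oneAll 16 (appT tabs t80 0xffff) [49,49,44,47,48] 0 4060 = true := by decide +kernel
theorem c146 : oneAll 16 (appT tabs t80 0xffff) [50,45,49,46,47] 0 4060 = true := by decide +kernel
theorem c147 : oneAll 16 (appT tabs t80 0xffff) [51,51] 0 4060 = true := by decide +kernel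
theorem c148 : oneAll 16 (appT tabs t80 0xffff) [52,52] 0 4060 = true := by decide +kernel
theorem c149 : oneAll 16 (appT tabs t80 0xffff) [51,44,51,44] 0 4060 = true := by decide +kernel
theorem c150 : oneAll 16 (appT tabs t80 0xffff) [52,44,52,44] 0 4060 = true := by decide +kernel
theorem c151 : oneAll 16 (appT tabs t80 0xffff) [51,45,51,46] 0 4060 = true := by decide +kernel
theorem c152 : oneAll 16 (appT tabs t80 0xffff) [51,47,51,47] 0 4060 = true := by decide +kernel
theorem c153 : oneAll 16 (appT tabs t80 0xffff) [52,47,52,47] 0 4060 = true := by decide +kernel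
theorem c154 : oneAll 16 (appT tabs t80 0xffff) [51,48,51,48] 0 4060 = true := by decide +kernel
theorem c155 : oneAll 16 (appT tabs t80 0xffff) [52,48,52,48] 0 4060 = true := by decide +kernel
theorem c156 : oneAll 16 (appT tabs t80 0xffff) [51,49,51,50] 0 4060 = true := by decide +kernel
theorem c157 : oneAll 16 (appT tabs t80 0xffff) [51,52,51,52] 0 4060 = true := by decide +kernel
theorem c158 : oneAll 16 (appT tabs t80 0xffff) [52,45,52,46,48] 0 4060 = true := by decide +kernel
theorem c159 : oneAll 16 (appT tabs t80 0xffff) [52,49,52,48,50] 0 4060 = true := by decide +kernel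
theorem c160 : oneAll 16 (appT tabs t80 0xffff) [53,54] 0 4060 = true := by decide +kernel
theorem c161 : oneAll 16 (appT tabs t80 0xffff) [54,53] 0 4060 = true := by decide +kernel
theorem c162 : oneAll 16 (appT tabs t80 0xffff) [53,53,44,51] 0 4060 = true := by decide +kernel
theorem c163 : oneAll 16 (appT tabs t80 0xffff) [54,44,53,44] 0 4060 = true := by decide +kernel
theorem c164 : oneAll 16 (appT tabs t80 0xffff) [54,45,53,46] 0 4060 = true := by decide +kernel
theorem c165 : oneAll 16 (appT tabs t80 0xffff) [54,48,53,48] 0 4060 = true := by decide +kernel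
theorem c166 : oneAll 16 (appT tabs t80 0xffff) [54,52,53,52] 0 4060 = true := by decide +kernel
theorem c167 : oneAll 16 (appT tabs t80 0xffff) [54,47,53,47,48] 0 4060 = true := by decide +kernel
theorem c168 : oneAll 16 (appT tabs t80 0xffff) [52,53,50,53,49] 0 4060 = true := by decide +kernel
theorem c169 : oneAll 16 (appT tabs t80 0xffff) [55,56] 0 4060 = true := by decide +kernel
theorem c170 : oneAll 16 (appT tabs t80 0xffff) [56,55] 0 4060 = true := by decide +kernel
theorem c171 : oneAll 16 (appT tabs t80 0xffff) [56,48,55,48] 0 4060 = true := by decide +kernel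
theorem c172 : oneAll 16 (appT tabs t80 0xffff) [55,44,56,47,51] 0 4060 = true := by decide +kernel
theorem c173 : oneAll 16 (appT tabs t80 0xffff) [55,47,56,47,52] 0 4060 = true := by decide +kernel
theorem c174 : oneAll 16 (appT tabs t80 0xffff) [55,51,56,44,47] 0 4060 = true := by decide +kernel
theorem c175 : oneAll 16 (appT tabs t80 0xffff) [56,44,55,44,47,52] 0 4060 = true := by decide +kernel
theorem c176 : oneAll 16 (appT tabs t80 0xffff) [56,46,55,50,51,54] 0 4060 = true := by decide +kernel
theorem c177 : oneAll 16 (appT tabs t80 0xffff) [55,53,45,56,50,52] 0 4060 = true := by decide +kernel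
theorem c178 : oneAll 16 (appT tabs t80 0xffff) [55,55,55,55,44,51] 0 4060 = true := by decide +kernel
theorem c179 : oneAll 16 (appT tabs t80 0xffff) [55,50,55,45,55,55,53] 0 4060 = true := by decide +kernel
theorem c180 : oneAll 16 (appT tabs t80 0xffff) [57,57] 0 4060 = true := by decide +kernel
theorem c181 : oneAll 16 (appT tabs t80 0xffff) [57,44,51,57,44,51] 0 4060 = true := by decide +kernel
theorem c182 : oneAll 16 (appT tabs t80 0xffff) [57,44,53,57,44,54] 0 4060 = true := by decide +kernel
theorem c183 : oneAll 16 (appT tabs t80 0xffff) [57,44,55,57,51,55] 0 4060 = true := by decide +kernel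
theorem c184 : oneAll 16 (appT tabs t80 0xffff) [57,45,57,46,57,51] 0 4060 = true := by decide +kernel
theorem c185 : oneAll 16 (appT tabs t80 0xffff) [57,55,57,50,57,50,56] 0 4060 = true := by decide +kernel
theorem c186 : oneAll 16 (appT tabs t80 0xffff) [57,55,53,47,57,47,54,56] 0 4060 = true := by decide +kernel
theorem c187 : oneAll 16 (appT tabs t80 0xffff) [57,47,57,52,57,47,57,52] 0 4060 = true := by decide +kernel
theorem c188 : oneAll 16 (appT tabs t80 0xffff) [57,50,55,50,57,52,45,49] 0 4060 = true := by decide +kernel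
theorem c189 : oneAll 16 (appT tabs t80 0xffff) [58,58] 0 4060 = true := by decide +kernel
theorem c190 : oneAll 16 (appT tabs t80 0xffff) [58,47,58,47] 0 4060 = true := by decide +kernel
theorem c191 : oneAll 16 (appT tabs t80 0xffff) [58,48,58,48] 0 4060 = true := by decide +kernel
theorem c192 : oneAll 16 (appT tabs t80 0xffff) [58,51,58,51] 0 4060 = true := by decide +kernel
theorem c193 : oneAll 16 (appT tabs t80 0xffff) [58,44,58,44,48] 0 4060 = true := by decide +kernel
theorem c194 : oneAll 16 (appT tabs t80 0xffff) [58,52,58,48,52] 0 4060 = true := by decide +kernel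
theorem c195 : oneAll 16 (appT tabs t80 0xffff) [58,46,58,46,47,52] 0 4060 = true := by decide +kernel
theorem c196 : oneAll 16 (appT tabs t80 0xffff) [58,50,58,50,51,52] 0 4060 = true := by decide +kernel
theorem c197 : oneAll 16 (appT tabs t80 0xffff) [58,54,58,47,51,52,54] 0 4060 = true := by decide +kernel
theorem c198 : oneAll 16 (appT tabs t80 0xffff) [50,58,56,58,53,47,55] 0 4060 = true := by decide +kernel
theorem c199 : oneAll 16 (appT tabs t80 0xffff) [58,57,55,58,57,47,57,58,57,47,57,58,56,57,58,47,48] 0 4060 = true := by decide +kernel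
theorem c200 : oneAll 16 (appT tabs t80 0xffff) [58,57,46,58,57,58,57,58,45,57,58,57,46,58,57,58,57,58,44,46,57] 0 4060 = true := by decide +kernel
theorem c201 : oneAll 16 (appT tabs t80 0xffff) [59,59] 0 4060 = true := by decide +kernel
theorem c202 : oneAll 16 (appT tabs t80 0xffff) [59,48,59,48] 0 4060 = true := by decide +kernel
theorem c203 : oneAll 16 (appT tabs t80 0xffff) [59,47,59,44,47,51] 0 4060 = true := by decide +kernel
theorem c204 : oneAll 16 (appT tabs t80 0xffff) [59,52,59,44,51,52] 0 4060 = true := by decide +kernel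
theorem c205 : oneAll 16 (appT tabs t80 0xffff) [59,55,59,48,52,55] 0 4060 = true := by decide +kernel
theorem c206 : oneAll 16 (appT tabs t80 0xffff) [59,44,59,47,48,51,52] 0 4060 = true := by decide +kernel
theorem c207 : oneAll 16 (appT tabs t80 0xffff) [56,59,45,56,54,59,45] 0 4060 = true := by decide +kernel
theorem c208 : oneAll 16 (appT tabs t80 0xffff) [48,59,57,55,59,54,57] 0 4060 = true := by decide +kernel
theorem c209 : oneAll 16 (appT tabs t80 0xffff) [59,58,59,58,59,44,58,59,44,58] 0 4060 = true := by decide +kernel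
theorem c210 : oneAll 16 (appT tabs t80 0xffff) [59,58,57,58,59,58,46,57,58,59,56,54,58,57,45,58] 0 4060 = true := by decide +kernel
theorem c211 : oneAll 16 (appT tabs t80 0xffff) [59,58,57,47,57,59,58,59,44,47,51,54,57,47,57,58,57,47,57] 0 4060 = true := by decide +kernel
theorem c212 : oneAll 16 (appT tabs t80 0xffff) [59,58,57,58,57,58,59,58,56,57,58,44,57,58,59,46,50,58,57,44,58,57,55,58] 0 4060 = true := by decide +kernel
theorem c213 : eqAll 16 (appT tabs t80 0xffff) [0] (nth inW [] 0) 0 4060 = true := by decide +kernel
theorem c214 : eqAll 16 (appT tabs t80 0xffff) [1] (nth inW [] 1) 0 4060 = true := by decide +kernel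
theorem c215 : eqAll 16 (appT tabs t80 0xffff) [2] (nth inW [] 2) 0 4060 = true := by decide +kernel

end Cfsg.Agent.CG.Ru
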