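import Cfsg.Agent.Lib.Grp.Ru.D0

set_option autoImplicit false
set_option maxRecDepth 100000
set_option Elab.async false

namespace Cfsg.Agent.CG.Ru

noncomputable def tabs : List ℕ := [t0,t1,t2,t3,t4,t5,t6,t7,t8,t9,t10,t11,t12,t13,t14,t15,t16,t17,t18,t19,t20,t21,t22,t23,t24,t25,t26,t27,t28,t29,t30,t31,t32,t33,t34,t35,t36,t37,t38,t39,t40,t41,t42,t43,t44,t45,t46,t47,t48,t49,t50,t51,t52,t53,t54,t55,t56,t57,t58,t59,t60,t61,t62,t63,t64,t65,t66,t67,t68,t69,t70,t71,t72,t73,t74,t75,t76,t77,t78,t79]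
noncomputable abbrev app : ℕ → ℕ → ℕ := appT tabs t80 0xffff
noncomputable def slpL : List (Bool × List ℕ) := [(false,[]),
  (false,[]),
  (false,[]),
  (false,[1,0,1,0,1,0,2,2,0,1]),
  (true,[3]),
  (false,[1]),
  (true,[5]),
  (false,[5,5]),
  (false,[3]),
  (true,[8]),
  (false,[6,0,5,4,5,7,6,3,6,0,5]),
  (false,[10,8,8,10,8,8,10]),
  (true,[11]),
  (false,[8,10,11,9,10,9,10]),
  (true,[13]),
  (false,[12,8,11,10,13,12,14]),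
  (true,[15]),
  (false,[12,10,13,11,10,15,10,12,10,12,14,16]),
  (true,[17]),
  (false,[12,12,8,15,14,14,16,14,16,8,10,15,15]),
  (true,[19]),
  (false,[9,11,8,13,16,14,14,9,12,14,12,13]),
  (true,[21]),
  (false,[17,21,21,19,11,11,15,9,16,10,14,16,14,8,8,10]),
  (true,[23]),
  (false,[19,17,21,19,19,9,14,8,16,16,16,10,11,16,10,11,10,14]),
  (true,[25]),
  (false,[24,24,18,18,20,17,19,22,12,14,15,13,16,14,8,15,15,11,15,10,13]),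
  (true,[27]),
  (false,[26,24,18,22,19,19,17,19,14,11,15,9,14,10,15,11,13,8,14,10]),
  (true,[29]),
  (false,[29,23,17,17,22,17,14,11,8,8,15,8,10,9,14,15,10,13]),
  (true,[31]),
  (false,[27,26,24,18,21,19,17,20,8,14,14,16,14,11,10,8,16,8,16,14]),
  (true,[33]),
  (false,[30,24,25,17,19,22,17,9,16,13,12,8,14,11,8,15,13,10,11,9]),
  (false,[32,28,29,23,18,20,18,21,19,9,10,14,10,15,12,15,10,13,11,16,12,14]),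
  (true,[36]),
  (false,[28,29,26,18,20,17,21,21,17,8,14,16,16,16,14,11,11,15,13,9,9,10]),
  (false,[28,28,24,25,20,20,22,18,21,12,10,8,10,9,16,13,16,12]),
  (true,[39]),
  (false,[38,40,32,28,22,22,20,18,11,10,16,9,16,8,10,12,14,14,16,14]),
  (true,[41]),
  (false,[42,34,35,32,29,24,25,17,17,22,20,13,9,15,10,16,11,9,12,13,10,16]),
  (false,[43]),
  (false,[41]),
  (true,[45]),
  (false,[39,41,43]),
  (false,[38,43]),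
  (false,[36,38,43]),
  (true,[49]),
  (false,[35,33,36,39,38,41,43]),
  (false,[33,36,39,41]),
  (false,[31,35,33,36,39,38,43]),
  (true,[53]),
  (false,[30,27,31,35,36,38,41]),
  (true,[55]),
  (false,[25,23,29,27,35,39,38,41]),
  (false,[19,18,20,22,17,26,23,33,36,39,38]),
  (false,[14,14,15,11,8,17,20,20,18,25,23,30,31,33,36,38,41,43]),
  (false,[22,19,21,21,25,35,33,36]),
  (true,[60]),
  (false,[22,19,17,20,18,23,26,23,30,31,35,33,36,43]),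
  (false,[9,9,15,13,19,22,17,20,17,17,25,29,27,31,36,39,43]),
  (false,[9,12,9,11,11,21,21,17,17,26,23,30,27,31,33,36,39,38,41]),
  (false,[15,10,8,13,19,18,18,22,20,25,27,31,39,43]),
  (true,[65]),
  (false,[12,14,16,11,21,19,19,22,24,25,29,31,36,39,43]),
  (true,[67]),
  (false,[22,22,18,21,23,26,23,30,35,36]),
  (true,[69]),
  (false,[20,18,20,21,18,23,23,29,27,33,43]),
  (true,[71]),
  (false,[23,26,23,30,36,39,38,43]),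
  (true,[73]),
  (false,[25,27,36,39]),
  (false,[28,35,36,38,43]),
  (false,[27,27,35,39,38,41]),
  (false,[8,8]),
  (true,[78])]
noncomputable def slp (a : ℕ) : Bool × List ℕ := nth slpL (false, []) a
noncomputable def invL : List ℕ := [0,2,1,4,3,6,5,7,9,8,10,12,11,14,13,16,15,18,17,20,19,22,21,24,23,26,25,28,27,30,29,32,31,34,33,35,37,36,38,40,39,42,41,43,44,46,45,47,48,50,49,51,52,54,53,56,55,57,58,59,61,60,62,63,64,66,65,68,67,70,69,72,71,74,73,75,76,77,79,78]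
noncomputable def inv (a : ℕ) : ℕ := nth invL 80 a
noncomputable def bs : List ℕ := [32,6256,61840,63264,61856,41984,4656,17376,14192,8016]
noncomputable def mc0 : Lvl := ⟨32, [8,9,10,11,12,13,14,15,16], 4060,
  fun i => look 0xffff mc0c (Nat.mul 16 i), fun i => look 0xfff mc0p (Nat.mul 12 i),
  fun i => look 255 mc0l (Nat.mul 8 i), fun i => look 255 mc0i (Nat.mul 8 i), fun x => look 0xffff mc0q x, 6⟩
noncomputable def mc1 : Lvl := ⟨6256, [17,18,19,20,21,22], 1755,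
  fun i => look 0xffff mc1c (Nat.mul 16 i), fun i => look 0xfff mc1p (Nat.mul 12 i),
  fun i => look 255 mc1l (Nat.mul 8 i), fun i => look 255 mc1i (Nat.mul 8 i), fun x => look 0xffff mc1q x, 6⟩
noncomputable def mc2 : Lvl := ⟨61840, [23,24,25,26], 10,
  fun i => look 0xffff mc2c (Nat.mul 16 i), fun i => look 0xf mc2p (Nat.mul 4 i),
  fun i => look 255 mc2l (Nat.mul 8 i), fun i => look 255 mc2i (Nat.mul 8 i), fun x => look 0xffff mc2q x, 3⟩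
noncomputable def mc3 : Lvl := ⟨63264, [27,28,29,30], 8,
  fun i => look 0xffff mc3c (Nat.mul 16 i), fun i => look 0xf mc3p (Nat.mul 4 i),
  fun i => look 255 mc3l (Nat.mul 8 i), fun i => look 255 mc3i (Nat.mul 8 i), fun x => look 0xffff mc3q x, 2⟩
noncomputable def mc4 : Lvl := ⟨61856, [31,32], 2,
  fun i => look 0xffff mc4c (Nat.mul 16 i), fun i => look 0xf mc4p (Nat.mul 4 i),
  fun i => look 255 mc4l (Nat.mul 8 i), fun i => look 255 mc4i (Nat.mul 8 i), fun x => look 0xffff mc4q x, 1⟩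
noncomputable def mc5 : Lvl := ⟨41984, [33,34,35], 4,
  fun i => look 0xffff mc5c (Nat.mul 16 i), fun i => look 0xf mc5p (Nat.mul 4 i),
  fun i => look 255 mc5l (Nat.mul 8 i), fun i => look 255 mc5i (Nat.mul 8 i), fun x => look 0xffff mc5q x, 2⟩
noncomputable def mc6 : Lvl := ⟨4656, [36,37], 2,
  fun i => look 0xffff mc6c (Nat.mul 16 i), fun i => look 0xf mc6p (Nat.mul 4 i),
  fun i => look 255 mc6l (Nat.mul 8 i), fun i => look 255 mc6i (Nat.mul 8 i), fun x => look 0xffff mc6q x, 1⟩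
noncomputable def mc7 : Lvl := ⟨17376, [38,39,40], 4,
  fun i => look 0xffff mc7c (Nat.mul 16 i), fun i => look 0xf mc7p (Nat.mul 4 i),
  fun i => look 255 mc7l (Nat.mul 8 i), fun i => look 255 mc7i (Nat.mul 8 i), fun x => look 0xffff mc7q x, 2⟩
noncomputable def mc8 : Lvl := ⟨14192, [41,42], 2,
  fun i => look 0xffff mc8c (Nat.mul 16 i), fun i => look 0xf mc8p (Nat.mul 4 i),
  fun i => look 255 mc8l (Nat.mul 8 i), fun i => look 255 mc8i (Nat.mul 8 i), fun x => look 0xffff mc8q x, 1⟩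
noncomputable def mc9 : Lvl := ⟨8016, [43], 2,
  fun i => look 0xffff mc9c (Nat.mul 16 i), fun i => look 0xf mc9p (Nat.mul 4 i),
  fun i => look 255 mc9l (Nat.mul 8 i), fun i => look 255 mc9i (Nat.mul 8 i), fun x => look 0xffff mc9q x, 1⟩
noncomputable def mc : List Lvl := [mc0, mc1, mc2, mc3, mc4, mc5, mc6, mc7, mc8, mc9]
noncomputable def tcR : List (List ℕ) := [[44,44],
  [45,46],
  [46,45],
  [45,45,44],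
  [47,47],
  [48,48],
  [47,44,47,44],
  [48,44,48,44],
  [47,45,47,46],
  [48,45,48,46],
  [47,48,47,48],
  [49,50],
  [50,49],
  [50,44,49,44],
  [50,47,49,47],
  [50,48,49,48],
  [49,49,44,47,48],
  [50,45,49,46,47],
  [51,51],
  [52,52],
  [51,44,51,44],
  [52,44,52,44],
  [51,45,51,46],
  [51,47,51,47],
  [52,47,52,47],
  [51,48,51,48],
  [52,48,52,48],
  [51,49,51,50],
  [51,52,51,52],
  [52,45,52,46,48],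
  [52,49,52,48,50],
  [53,54],
  [54,53],
  [53,53,44,51],
  [54,44,53,44],
  [54,45,53,46],
  [54,48,53,48],
  [54,52,53,52],
  [54,47,53,47,48],
  [52,53,50,53,49],
  [55,56],
  [56,55],
  [56,48,55,48],
  [55,44,56,47,51],
  [55,47,56,47,52],
  [55,51,56,44,47],
  [56,44,55,44,47,52],
  [56,46,55,50,51,54],
  [55,53,45,56,50,52],
  [55,55,55,55,44,51],
  [55,50,55,45,55,55,53],
  [57,57],
  [57,44,51,57,44,51],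
  [57,44,53,57,44,54],
  [57,44,55,57,51,55],
  [57,45,57,46,57,51],
  [57,55,57,50,57,50,56],
  [57,55,53,47,57,47,54,56],
  [57,47,57,52,57,47,57,52],
  [57,50,55,50,57,52,45,49],
  [58,58],
  [58,47,58,47],
  [58,48,58,48],
  [58,51,58,51],
  [58,44,58,44,48],
  [58,52,58,48,52],
  [58,46,58,46,47,52],
  [58,50,58,50,51,52],
  [58,54,58,47,51,52,54],
  [50,58,56,58,53,47,55],
  [58,57,55,58,57,47,57,58,57,47,57,58,56,57,58,47,48],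
  [58,57,46,58,57,58,57,58,45,57,58,57,46,58,57,58,57,58,44,46,57],
  [59,59],
  [59,48,59,48],
  [59,47,59,44,47,51],
  [59,52,59,44,51,52],
  [59,55,59,48,52,55],
  [59,44,59,47,48,51,52],
  [56,59,45,56,54,59,45],
  [48,59,57,55,59,54,57],
  [59,58,59,58,59,44,58,59,44,58],
  [59,58,57,58,59,58,46,57,58,59,56,54,58,57,45,58],
  [59,58,57,47,57,59,58,59,44,47,51,54,57,47,57,58,57,47,57],
  [59,58,57,58,57,58,59,58,56,57,58,44,57,58,59,46,50,58,57,44,58,57,55,58]]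
noncomputable def tc0T : List ℕ := [0,0,0,0,0,0,0,0,0,0,0,0,0,0,0,0,0,0,0,0,0,0,0,0,0,0,0,0,0,0,0,0,0,0,0,0,0,0,0,0,0,0,0,0,tc0t44,tc0t45,tc0t46,tc0t47,tc0t48,tc0t49,tc0t50,tc0t51,tc0t52,tc0t53,tc0t54,tc0t55,tc0t56,tc0t57,tc0t58,tc0t59]
noncomputable def tc0r : Tr Rule := (.node (.node (.node (.node (.node (.node (.node (.node (.node (.leaf ⟨59,[59],72,1⟩) (.leaf ⟨48,[59,48,59],73,1⟩)) (.leaf ⟨57,[50,57,50,56,57,55],56,2⟩)) (.node (.node (.leaf ⟨45,[49,46,47,50],17,1⟩) (.leaf ⟨57,[59,58,59,44,47,51,54,57,47,57,58,57,47,57,59,58,57,47],82,4⟩)) (.leaf ⟨47,[52,47,52],24,1⟩))) (.node (.node (.node (.leaf ⟨48,[58,48,58],62,3⟩) (.leaf ⟨58,[50,58,50,51,52],67,0⟩)) (.leaf ⟨54,[56,57,55,53,47,57,47],57,6⟩)) (.node (.leaf ⟨52,[45,52,46,48],29,0⟩) (.leaf ⟨58,[48,52,58,52],65,2⟩)))) (.node (.node (.node (.node (.leaf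 ⟨45,[44,45],3,1⟩) (.leaf ⟨55,[50,58,56,58,53,47],69,6⟩)) (.leaf ⟨48,[46,48,45],9,2⟩)) (.node (.node (.leaf ⟨48,[52,48,52],26,1⟩) (.leaf ⟨58,[45,57,58,57,46,58,57,58,57,58,44,46,57,58,57,46,58,57,58,57],71,7⟩)) (.leaf ⟨47,[55,51,56,44],45,4⟩))) (.node (.node (.node (.leaf ⟨44,[51,53,53],33,2⟩) (.leaf ⟨58,[59,44,58,59,58,59,58,59,44],80,6⟩)) (.leaf ⟨51,[49,51,50],27,0⟩)) (.node (.leaf ⟨44,[48,58,44,58],64,3⟩) (.leaf ⟨48,[52,45,52,46],29,4⟩))))) (.node (.node (.node (.node (.node (.leaf ⟨55,[56],40,0⟩) (.leaf ⟨59,[52,59,44,51,52],75,0⟩)) (.leaf ⟨46,[47,50,45,49],17,3⟩)) (.node (.node (.leaf ⟨44,[47,55,51,56],45,3⟩) (.leaf ⟨58,[59,58,57,58,57,58,59,58,56,57,58,44,57,58,59,46,50,58,57,44,58,57,55],83,23⟩)) (.leaf ⟨52,[51,52,51],28,1⟩))) (.node (.node (.node (.leaf ⟨53,[44,51,53],33,1⟩) (.leaf ⟨52,[59,52,59,44,51],75,5⟩))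 (.leaf ⟨49,[48,50,48],15,2⟩)) (.node (.leaf ⟨48,[59,48,59],73,3⟩) (.leaf ⟨55,[44,51,55,55,55],49,3⟩)))) (.node (.node (.node (.node (.leaf ⟨44,[49,44,50],13,1⟩) (.leaf ⟨55,[57,50,57,50,56,57],56,1⟩)) (.leaf ⟨55,[44,47,52,56,44],46,2⟩)) (.node (.leaf ⟨49,[44,47,48,49],16,1⟩) (.leaf ⟨58,[51,58,51],63,0⟩))) (.node (.node (.node (.leaf ⟨48,[53,48,54],36,1⟩) (.leaf ⟨57,[58,59,58,46,57,58,59,56,54,58,57,45,58,59,58],81,2⟩)) (.leaf ⟨53,[52,54,52],37,2⟩)) (.node (.leaf ⟨50,[51,54,56,46,55],47,3⟩) (.leaf ⟨51,[57,45,57,46,57],55,5⟩)))))) (.node (.node (.node (.node (.node (.node (.leaf ⟨46,[45],1,1⟩) (.leaf ⟨52,[55,59,55,59,48],76,4⟩)) (.leaf ⟨52,[47,52,47],24,2⟩)) (.node (.node (.leaf ⟨53,[47,48,54,47],38,2⟩) (.leaf ⟨58,[56,57,58,44,57,58,59,46,50,58,57,44,58,57,55,58,59,58,57,58,57,58,59],83,7⟩)) (.leaf ⟨49,[52,48,50,52],30,1⟩)))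 (.node (.node (.node (.leaf ⟨44,[48,44,48],7,3⟩) (.leaf ⟨54,[57,48,59,57,55,59],79,5⟩)) (.leaf ⟨47,[50,45,49,46],17,4⟩)) (.node (.leaf ⟨46,[47,52,58,46,58],66,3⟩) (.leaf ⟨47,[48,47,48],10,0⟩)))) (.node (.node (.node (.node (.leaf ⟨47,[58,47,58],61,3⟩) (.leaf ⟨52,[45,49,57,50,55,50,57],59,5⟩)) (.leaf ⟨57,[51,57,45,57,46],55,4⟩)) (.node (.leaf ⟨44,[54,44,53],34,3⟩) (.leaf ⟨44,[56,47,51,55],43,1⟩))) (.node (.node (.node (.leaf ⟨48,[58,44,58,44],64,4⟩) (.leaf ⟨59,[58,57,58,59,58,46,57,58,59,56,54,58,57,45,58],81,0⟩)) (.leaf ⟨44,[52,44,52],21,1⟩)) (.node (.leaf ⟨51,[50,51,49],27,2⟩) (.leaf ⟨51,[48,51,48],25,0⟩))))) (.node (.node (.node (.node (.node (.leaf ⟨53,[54],31,0⟩) (.leaf ⟨58,[53,47,55,50,58,56],69,3⟩)) (.leaf ⟨58,[47,58,47],61,2⟩)) (.node (.node (.leaf ⟨58,[44,48,58,44],64,2⟩) (.leaf ⟨56,[57,58,44,57,58,59,46,50,58,57,44,58,57,55,58,59,58,57,58,57,58,59,58],83,8⟩))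 (.leaf ⟨57,[51,55,57,44,55],54,3⟩))) (.node (.node (.node (.leaf ⟨47,[50,47,49],14,3⟩) (.leaf ⟨57,[58,57,46,58,57,58,57,58,45,57,58,57,46,58,57,58,57,58,44,46],71,20⟩)) (.leaf ⟨51,[47,51,47],23,2⟩)) (.node (.leaf ⟨52,[59,44,51,52,59],75,1⟩) (.leaf ⟨47,[52,55,47,56],44,3⟩)))) (.node (.node (.node (.node (.leaf ⟨45,[53,46,54],35,1⟩) (.leaf ⟨57,[55,57,50,57,50,56],56,0⟩)) (.leaf ⟨55,[53,45,56,50,52],48,0⟩)) (.node (.leaf ⟨50,[58,50,51,52,58],67,1⟩) (.leaf ⟨47,[51,55,44,56],43,3⟩))) (.node (.node (.node (.leaf ⟨58,[48,58,48],62,2⟩) (.leaf ⟨57,[50,56,57,55,57,50],56,4⟩)) (.leaf ⟨46,[57,51,57,45,57],55,3⟩)) (.node (.leaf ⟨55,[57,44,55,57,51],54,5⟩) (.leaf ⟨59,[55,59,48,52,55],76,0⟩))))))) (.node (.node (.node (.node (.node (.node (.node (.leaf ⟨57,[57],51,1⟩) (.leaf ⟨49,[46,47,50,45],17,2⟩)) (.leaf ⟨52,[55,53,45,56,50],48,5⟩))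 (.node (.node (.leaf ⟨56,[44,47,55,51],45,2⟩) (.leaf ⟨47,[57,59,58,57,47,57,59,58,59,44,47,51,54,57,47,57,58,57],82,17⟩)) (.leaf ⟨44,[51,44,51],20,3⟩))) (.node (.node (.node (.leaf ⟨51,[58,51,58],63,3⟩) (.leaf ⟨59,[54,57,48,59,57,55],79,4⟩)) (.leaf ⟨55,[50,57,52,45,49,57,50],59,2⟩)) (.node (.leaf ⟨52,[48,52,48],26,2⟩) (.leaf ⟨47,[51,47,51],23,3⟩)))) (.node (.node (.node (.node (.leaf ⟨44,[45,45],3,2⟩) (.leaf ⟨47,[54,56,57,55,53,47,57],57,5⟩)) (.leaf ⟨53,[45,56,50,52,55],48,1⟩)) (.node (.node (.leaf ⟨54,[57,44,53,57,44],53,5⟩) (.leaf ⟨57,[58,59,58,56,57,58,44,57,58,59,46,50,58,57,44,58,57,55,58,59,58,57,58],83,4⟩)) (.leaf ⟨47,[53,47,48,54],38,1⟩))) (.node (.node (.node (.leaf ⟨57,[45,57,46,57,51],55,0⟩) (.leaf ⟨59,[58,59,58,59,44,58,59,44,58],80,0⟩)) (.leaf ⟨52,[46,48,52,45],29,2⟩)) (.node (.leaf ⟨51,[46,51,45],22,2⟩)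 (.leaf ⟨59,[44,47,51,59,47],74,2⟩))))) (.node (.node (.node (.node (.node (.leaf ⟨54,[53],31,1⟩) (.leaf ⟨44,[47,51,59,47,59],74,3⟩)) (.leaf ⟨47,[46,47,45],8,2⟩)) (.node (.node (.leaf ⟨52,[51,52,51],28,3⟩) (.leaf ⟨58,[57,55,58,59,58,57,58,57,58,59,58,56,57,58,44,57,58,59,46,50,58,57,44],83,20⟩)) (.leaf ⟨47,[51,47,51],23,1⟩))) (.node (.node (.node (.leaf ⟨48,[55,48,56],42,1⟩) (.leaf ⟨57,[58,57,58,44,46,57,58,57,46,58,57,58,57,58,45,57,58,57,46,58],71,14⟩)) (.leaf ⟨50,[44,49,44],13,0⟩)) (.node (.leaf ⟨47,[59,44,47,51,59],74,1⟩) (.leaf ⟨49,[52,53,50,53],39,4⟩)))) (.node (.node (.node (.node (.leaf ⟨46,[48,45,48],9,3⟩) (.leaf ⟨57,[52,57,47,57,52,57,47],58,6⟩)) (.leaf ⟨53,[44,54,44],34,2⟩)) (.node (.leaf ⟨53,[49,52,53,50],39,3⟩) (.leaf ⟨56,[44,55,44,47,52],46,0⟩))) (.node (.node (.node (.leaf ⟨44,[47,44,47],6,1⟩)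 (.leaf ⟨50,[57,50,56,57,55,57],56,3⟩)) (.leaf ⟨58,[47,58,47],61,0⟩)) (.node (.leaf ⟨54,[45,53,46],35,0⟩) (.leaf ⟨59,[48,52,55,59,55],76,2⟩)))))) (.node (.node (.node (.node (.node (.node (.leaf ⟨47,[47],4,1⟩) (.leaf ⟨45,[56,50,52,55,53],48,2⟩)) (.leaf ⟨52,[58,46,58,46,47],66,5⟩)) (.node (.node (.leaf ⟨54,[52,53,52],37,0⟩) (.leaf ⟨59,[58,56,57,58,44,57,58,59,46,50,58,57,44,58,57,55,58,59,58,57,58,57,58],83,6⟩)) (.leaf ⟨51,[44,51,44],20,0⟩))) (.node (.node (.node (.leaf ⟨44,[53,44,54],34,1⟩) (.leaf ⟨59,[57,55,59,54,57,48],79,1⟩)) (.leaf ⟨51,[47,51,47],23,0⟩)) (.node (.leaf ⟨54,[58,54,58,47,51,52],68,6⟩) (.leaf ⟨47,[56,47,52,55],44,1⟩)))) (.node (.node (.node (.node (.leaf ⟨47,[49,47,50],14,1⟩) (.leaf ⟨52,[57,47,57,52,57,47,57],58,3⟩)) (.leaf ⟨55,[51,56,44,47],45,0⟩)) (.node (.leaf ⟨51,[55,57,44,55,57],54,4⟩)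 (.leaf ⟨51,[55,55,55,55,44],49,5⟩))) (.node (.node (.node (.leaf ⟨48,[47,48,47],10,3⟩) (.leaf ⟨59,[45,56,54,59,45,56],78,1⟩)) (.leaf ⟨56,[50,52,55,53,45],48,3⟩)) (.node (.leaf ⟨45,[56,59,45,56,54,59],78,6⟩) (.leaf ⟨51,[57,44,51,57,44],52,2⟩))))) (.node (.node (.node (.node (.node (.leaf ⟨51,[51],18,1⟩) (.leaf ⟨51,[54,56,46,55,50],47,4⟩)) (.leaf ⟨51,[58,51,58],63,1⟩)) (.node (.node (.leaf ⟨52,[58,48,52,58],65,1⟩) (.leaf ⟨57,[55,58,59,58,57,58,57,58,59,58,56,57,58,44,57,58,59,46,50,58,57,44,58],83,21⟩)) (.leaf ⟨45,[57,46,57,51,57],55,1⟩))) (.node (.node (.node (.leaf ⟨48,[49,48,50],15,1⟩) (.leaf ⟨47,[48,54,47,53],38,3⟩)) (.leaf ⟨51,[52,51,52],28,0⟩)) (.node (.leaf ⟨51,[52,59,44,59,47,48],77,5⟩) (.leaf ⟨55,[59,48,52,55,59],76,1⟩)))) (.node (.node (.node (.node (.leaf ⟨48,[50,48,49],15,3⟩) (.leaf ⟨58,[57,47,57,58,57,47,57,58,56,57,58,47,48,58,57,55],70,3⟩))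 (.leaf ⟨55,[55,44,51,55,55],49,2⟩)) (.node (.leaf ⟨44,[55,57,51,55,57],54,1⟩) (.leaf ⟨47,[52,56,44,55,44],46,4⟩))) (.node (.node (.node (.leaf ⟨48,[44,48,44],7,2⟩) (.leaf ⟨59,[58,46,57,58,59,56,54,58,57,45,58,59,58,57,58],81,4⟩)) (.leaf ⟨47,[58,47,58],61,1⟩)) (.node (.leaf ⟨55,[50,51,54,56,46],47,2⟩) (.leaf ⟨59,[48,59,48],73,2⟩)))))))) (.node (.node (.node (.node (.node (.node (.node (.node (.leaf ⟨58,[58],60,1⟩) (.leaf ⟨51,[52,59,52,59,44],75,4⟩)) (.leaf ⟨55,[57,51,55,57,44],54,2⟩)) (.node (.node (.leaf ⟨48,[54,47,53,47],38,4⟩) (.leaf ⟨59,[58,57,47,57,59,58,59,44,47,51,54,57,47,57,58,57,47,57],82,0⟩)) (.leaf ⟨51,[52,51,52],28,2⟩))) (.node (.node (.node (.leaf ⟨49,[51,50,51],27,1⟩) (.leaf ⟨57,[55,59,54,57,48,59],79,2⟩)) (.leaf ⟨53,[47,57,47,54,56,57,55],57,2⟩)) (.node (.leaf ⟨51,[52,54,58,54,58,47],68,4⟩)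 (.leaf ⟨58,[52,58,48,52],65,0⟩)))) (.node (.node (.node (.node (.leaf ⟨44,[50,44,49],13,3⟩) (.leaf ⟨55,[53,47,57,47,54,56,57],57,1⟩)) (.leaf ⟨55,[47,56,47,52],44,0⟩)) (.node (.node (.leaf ⟨51,[55,44,56,47],43,4⟩) (.leaf ⟨58,[44,46,57,58,57,46,58,57,58,57,58,45,57,58,57,46,58,57,58,57],71,17⟩)) (.leaf ⟨57,[44,51,57,44,51],52,3⟩))) (.node (.node (.node (.leaf ⟨54,[44,53,44],34,0⟩) (.leaf ⟨59,[44,58,59,44,58,59,58,59,58],80,4⟩)) (.leaf ⟨56,[48,55,48],42,0⟩)) (.node (.leaf ⟨51,[57,44,51,57,44],52,5⟩) (.leaf ⟨48,[52,48,52],26,3⟩))))) (.node (.node (.node (.node (.node (.leaf ⟨50,[49],11,1⟩) (.leaf ⟨59,[47,48,51,52,59,44],77,2⟩)) (.leaf ⟨56,[46,55,50,51,54],47,0⟩)) (.node (.node (.leaf ⟨51,[52,58,50,58,50],67,4⟩) (.leaf ⟨59,[58,57,58,57,58,59,58,56,57,58,44,57,58,59,46,50,58,57,44,58,57,55,58],83,0⟩)) (.leaf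 ⟨58,[51,58,51],63,2⟩))) (.node (.node (.node (.leaf ⟨52,[54,52,53],37,3⟩) (.leaf ⟨57,[46,58,57,58,57,58,44,46,57,58,57,46,58,57,58,57,58,45,57,58],71,11⟩)) (.leaf ⟨52,[48,52,48],26,0⟩)) (.node (.leaf ⟨48,[45,48,46],9,0⟩) (.leaf ⟨44,[55,44,47,52,56],46,1⟩)))) (.node (.node (.node (.node (.leaf ⟨46,[47,45,47],8,3⟩) (.leaf ⟨52,[57,47,57,52,57,47,57],58,7⟩)) (.leaf ⟨54,[58,47,51,52,54,58],68,1⟩)) (.node (.leaf ⟨52,[49,52,48,50],30,0⟩) (.leaf ⟨58,[56,58,53,47,55,50],69,1⟩))) (.node (.node (.node (.leaf ⟨48,[44,48,44],7,0⟩) (.leaf ⟨47,[48,49,49,44],16,3⟩)) (.leaf ⟨52,[58,50,58,50,51],67,5⟩)) (.node (.leaf ⟨50,[51,52,58,50,58],67,3⟩) (.leaf ⟨58,[44,58,44,48],64,0⟩)))))) (.node (.node (.node (.node (.node (.node (.leaf ⟨45,[46],1,0⟩) (.leaf ⟨48,[52,55,59,55,59],76,3⟩)) (.leaf ⟨47,[45,47,46],8,0⟩)) (.node (.node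 (.leaf ⟨52,[53,50,53,49],39,0⟩) (.leaf ⟨58,[44,57,58,59,46,50,58,57,44,58,57,55,58,59,58,57,58,57,58,59,58,56,57],83,10⟩)) (.leaf ⟨44,[51,57,44,51,57],52,4⟩))) (.node (.node (.node (.leaf ⟨44,[52,44,52],21,3⟩) (.leaf ⟨57,[48,59,57,55,59,54],79,6⟩)) (.leaf ⟨50,[52,55,53,45,56],48,4⟩)) (.node (.leaf ⟨53,[46,54,45],35,2⟩) (.leaf ⟨58,[50,51,52,58,50],67,2⟩)))) (.node (.node (.node (.node (.leaf ⟨45,[47,46,47],8,1⟩) (.leaf ⟨49,[57,50,55,50,57,52,45],59,7⟩)) (.leaf ⟨53,[53,44,51],33,0⟩)) (.node (.leaf ⟨51,[44,51,44],20,2⟩) (.leaf ⟨59,[47,59,44,47,51],74,0⟩))) (.node (.node (.node (.leaf ⟨44,[58,44,48,58],64,1⟩) (.leaf ⟨59,[45,56,59,45,56,54],78,5⟩)) (.leaf ⟨52,[44,52,44],21,0⟩)) (.node (.leaf ⟨51,[59,47,59,44,47],74,5⟩) (.leaf ⟨48,[58,48,58],62,1⟩))))) (.node (.node (.node (.node (.node (.leaf ⟨48,[48],5,1⟩)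 (.leaf ⟨56,[59,45,56,54,59,45],78,0⟩)) (.leaf ⟨50,[47,49,47],14,0⟩)) (.node (.node (.leaf ⟨46,[58,46,47,52,58],66,1⟩) (.leaf ⟨55,[58,59,58,57,58,57,58,59,58,56,57,58,44,57,58,59,46,50,58,57,44,58,57],83,22⟩)) (.leaf ⟨57,[44,53,57,44,54],53,0⟩))) (.node (.node (.node (.leaf ⟨47,[52,47,52],24,3⟩) (.leaf ⟨44,[51,57,44,51,57],52,1⟩)) (.leaf ⟨54,[48,53,48],36,0⟩)) (.node (.leaf ⟨55,[59,55,59,48,52],76,5⟩) (.leaf ⟨50,[53,49,52,53],39,2⟩)))) (.node (.node (.node (.node (.leaf ⟨47,[48,47,48],10,2⟩) (.leaf ⟨58,[56,57,58,47,48,58,57,55,58,57,47,57,58,57,47,57],70,11⟩)) (.leaf ⟨44,[53,57,44,54,57],53,1⟩)) (.node (.leaf ⟨48,[52,58,52,58],65,3⟩) (.leaf ⟨51,[56,44,47,55],45,1⟩))) (.node (.node (.node (.leaf ⟨50,[48,49,48],15,0⟩) (.leaf ⟨50,[57,52,45,49,57,50,55],59,3⟩)) (.leaf ⟨58,[46,58,46,47,52],66,0⟩)) (.node (.leaf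 ⟨56,[47,51,55,44],43,2⟩) (.leaf ⟨59,[48,59,48],73,0⟩))))))) (.node (.node (.node (.node (.node (.node (.node (.leaf ⟨44,[44],0,1⟩) (.leaf ⟨45,[52,46,48,52],29,1⟩)) (.leaf ⟨52,[44,52,44],21,2⟩)) (.node (.node (.leaf ⟨53,[48,54,48],36,2⟩) (.leaf ⟨46,[50,58,57,44,58,57,55,58,59,58,57,58,57,58,59,58,56,57,58,44,57,58,59],83,15⟩)) (.leaf ⟨52,[48,50,52,49],30,2⟩))) (.node (.node (.node (.leaf ⟨46,[54,45,53],35,3⟩) (.leaf ⟨55,[59,54,57,48,59,57],79,3⟩)) (.leaf ⟨46,[55,50,51,54,56],47,1⟩)) (.node (.leaf ⟨54,[47,53,47,48],38,0⟩) (.leaf ⟨48,[51,48,51],25,3⟩)))) (.node (.node (.node (.node (.leaf ⟨45,[45,44],3,0⟩) (.leaf ⟨50,[56,57,55,57,50,57],56,5⟩)) (.leaf ⟨46,[51,45,51],22,3⟩)) (.node (.leaf ⟨53,[57,44,54,57,44],53,2⟩) (.leaf ⟨52,[55,47,56,47],44,4⟩))) (.node (.node (.node (.leaf ⟨49,[49,44,47,48],16,0⟩) (.leaf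 ⟨59,[56,54,58,57,45,58,59,58,57,58,59,58,46,57,58],81,9⟩)) (.leaf ⟨44,[47,52,56,44,55],46,3⟩)) (.node (.leaf ⟨51,[45,51,46],22,0⟩) (.leaf ⟨58,[46,47,52,58,46],66,2⟩))))) (.node (.node (.node (.node (.node (.leaf ⟨56,[55],40,1⟩) (.leaf ⟨59,[44,59,47,48,51,52],77,0⟩)) (.leaf ⟨47,[44,47,44],6,2⟩)) (.node (.node (.leaf ⟨48,[49,49,44,47],16,4⟩) (.leaf ⟨58,[57,58,59,58,56,57,58,44,57,58,59,46,50,58,57,44,58,57,55,58,59,58,57],83,3⟩)) (.leaf ⟨44,[51,44,51],20,1⟩))) (.node (.node (.node (.leaf ⟨51,[53,53,44],33,3⟩) (.leaf ⟨57,[58,44,46,57,58,57,46,58,57,58,57,58,45,57,58,57,46,58,57,58],71,16⟩)) (.leaf ⟨48,[47,48,47],10,1⟩)) (.node (.leaf ⟨58,[57,47,57,58,56,57,58,47,48,58,57,55,58,57,47,57],70,7⟩) (.leaf ⟨48,[50,52,49,52],30,3⟩)))) (.node (.node (.node (.node (.leaf ⟨45,[48,46,48],9,1⟩) (.leaf ⟨56,[57,55,57,50,57,50],56,6⟩))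 (.leaf ⟨44,[54,57,44,53,57],53,4⟩)) (.node (.leaf ⟨56,[47,52,55,47],44,2⟩) (.leaf ⟨55,[55,55,55,44,51],49,0⟩))) (.node (.node (.node (.leaf ⟨49,[47,50,47],14,2⟩) (.leaf ⟨57,[50,55,50,57,52,45,49],59,0⟩)) (.leaf ⟨57,[44,55,57,51,55],54,0⟩)) (.node (.leaf ⟨56,[58,53,47,55,50,58],69,2⟩) (.leaf ⟨46,[48,52,45,52],29,3⟩)))))) (.node (.node (.node (.node (.node (.node (.leaf ⟨49,[50],11,0⟩) (.leaf ⟨54,[56,46,55,50,51],47,5⟩)) (.leaf ⟨50,[55,50,57,52,45,49,57],59,1⟩)) (.node (.node (.leaf ⟨53,[50,53,49,52],39,1⟩) (.leaf ⟨59,[46,50,58,57,44,58,57,55,58,59,58,57,58,57,58,59,58,56,57,58,44,57,58],83,14⟩)) (.leaf ⟨50,[45,49,46,47],17,0⟩))) (.node (.node (.node (.leaf ⟨47,[44,47,44],6,0⟩) (.leaf ⟨48,[59,57,55,59,54,57],79,0⟩)) (.leaf ⟨52,[56,44,55,44,47],46,5⟩)) (.node (.leaf ⟨52,[53,52,54],37,1⟩) (.leaf ⟨44,[51,55,55,55,55],49,4⟩))))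 (.node (.node (.node (.node (.leaf ⟨44,[47,44,47],6,3⟩) (.leaf ⟨45,[49,57,50,55,50,57,52],59,6⟩)) (.leaf ⟨55,[44,56,47,51],43,0⟩)) (.node (.leaf ⟨44,[48,44,48],7,1⟩) (.leaf ⟨58,[48,58,48],62,0⟩))) (.node (.node (.node (.leaf ⟨48,[54,48,53],36,3⟩) (.leaf ⟨57,[45,58,59,58,57,58,59,58,46,57,58,59,56,54,58],81,13⟩)) (.leaf ⟨55,[48,56,48],42,2⟩)) (.node (.leaf ⟨54,[59,45,56,59,45,56],78,4⟩) (.leaf ⟨44,[51,52,59,52,59],75,3⟩))))) (.node (.node (.node (.node (.node (.leaf ⟨52,[52],19,1⟩) (.leaf ⟨58,[54,58,47,51,52,54],68,0⟩)) (.leaf ⟨50,[51,49,51],27,3⟩)) (.node (.node (.leaf ⟨52,[58,52,58,48],65,4⟩) (.leaf ⟨57,[58,44,57,58,59,46,50,58,57,44,58,57,55,58,59,58,57,58,57,58,59,58,56],83,9⟩)) (.leaf ⟨48,[51,48,51],25,1⟩))) (.node (.node (.node (.leaf ⟨45,[51,46,51],22,1⟩) (.leaf ⟨45,[56,54,59,45,56,59],78,2⟩)) (.leaf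 ⟨51,[48,51,48],25,2⟩)) (.node (.leaf ⟨44,[59,47,48,51,52,59],77,1⟩) (.leaf ⟨59,[44,51,52,59,52],75,2⟩)))) (.node (.node (.node (.node (.leaf ⟨48,[56,48,55],42,3⟩) (.leaf ⟨58,[47,51,52,54,58,54],68,2⟩)) (.leaf ⟨57,[44,54,57,44,53],53,3⟩)) (.node (.leaf ⟨57,[46,57,51,57,45],55,2⟩) (.leaf ⟨57,[44,51,57,44,51],52,0⟩))) (.node (.node (.node (.leaf ⟨49,[44,50,44],13,2⟩) (.leaf ⟨57,[47,57,58,57,47,57,59,58,57,47,57,59,58,59,44,47,51,54],82,12⟩)) (.leaf ⟨52,[47,52,47],24,0⟩)) (.node (.leaf ⟨55,[55,55,44,51,55],49,1⟩) (.leaf ⟨50,[52,49,52,48],30,4⟩)))))))))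
noncomputable def tc0 : TCL := ⟨[44,45,46,47,48,49,50,51,52,53,54,55,56,57,58,59], [44,45,46,47,48,49,50,51,52,53,54,55,56,57,58], 4060, 36, 0x3ffff, 18, 0x1ff,
  fun a x => look 0xfffffffff (nth tc0T 0 a) x, fun x => look 0xfffffffff tc0d x, tc0r⟩
noncomputable def tc1T : List ℕ := [0,0,0,0,0,0,0,0,0,0,0,0,0,0,0,0,0,0,0,0,0,0,0,0,0,0,0,0,0,0,0,0,0,0,0,0,0,0,0,0,0,0,0,0,tc1t44,tc1t45,tc1t46,tc1t47,tc1t48,tc1t49,tc1t50,tc1t51,tc1t52,tc1t53,tc1t54,tc1t55,tc1t56,tc1t57,tc1t58]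
noncomputable def tc1r : Tr Rule := (.node (.node (.node (.node (.node (.node (.node (.node (.node (.leaf ⟨58,[58],60,1⟩) (.leaf ⟨57,[46,58,57,58,57,58,44,46,57,58,57,46,58,57,58,57,58,45,57,58],71,11⟩)) (.leaf ⟨47,[45,47,46],8,0⟩)) (.node (.leaf ⟨53,[49,52,53,50],39,3⟩) (.leaf ⟨58,[47,58,47],61,2⟩))) (.node (.node (.leaf ⟨44,[48,44,48],7,3⟩) (.leaf ⟨50,[55,50,57,52,45,49,57],59,1⟩)) (.node (.leaf ⟨52,[58,48,52,58],65,1⟩) (.leaf ⟨58,[48,52,58,52],65,2⟩)))) (.node (.node (.node (.leaf ⟨44,[50,44,49],13,3⟩) (.leaf ⟨47,[51,55,44,56],43,3⟩)) (.node (.leaf ⟨51,[57,44,51,57,44],52,5⟩) (.leaf ⟨47,[52,56,44,55,44],46,4⟩))) (.node (.node (.leaf ⟨48,[46,48,45],9,2⟩) (.leaf ⟨47,[53,47,48,54],38,1⟩)) (.node (.leaf ⟨55,[50,58,56,58,53,47],69,6⟩) (.leaf ⟨50,[45,49,46,47],17,0⟩))))) (.node (.node (.node (.node (.leaf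 ⟨50,[49],11,1⟩) (.leaf ⟨50,[47,49,47],14,0⟩)) (.node (.leaf ⟨53,[44,51,53],33,1⟩) (.leaf ⟨48,[58,48,58],62,1⟩))) (.node (.node (.leaf ⟨49,[49,44,47,48],16,0⟩) (.leaf ⟨46,[47,50,45,49],17,3⟩)) (.node (.leaf ⟨54,[58,54,58,47,51,52],68,6⟩) (.leaf ⟨48,[47,48,47],10,1⟩)))) (.node (.node (.node (.leaf ⟨46,[48,45,48],9,3⟩) (.leaf ⟨53,[44,54,44],34,2⟩)) (.node (.leaf ⟨58,[44,58,44,48],64,0⟩) (.leaf ⟨58,[56,58,53,47,55,50],69,1⟩))) (.node (.node (.leaf ⟨54,[52,53,52],37,0⟩) (.leaf ⟨48,[52,48,52],26,3⟩)) (.node (.leaf ⟨47,[44,47,44],6,0⟩) (.leaf ⟨55,[53,47,57,47,54,56,57],57,1⟩)))))) (.node (.node (.node (.node (.node (.node (.leaf ⟨45,[46],1,0⟩) (.leaf ⟨58,[57,46,58,57,58,57,58,44,46,57,58,57,46,58,57,58,57,58,45,57],71,10⟩)) (.leaf ⟨53,[53,44,51],33,0⟩)) (.node (.leaf ⟨47,[44,47,44],6,2⟩) (.leaf ⟨57,[51,55,57,44,55],54,3⟩)))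 (.node (.node (.leaf ⟨47,[50,47,49],14,3⟩) (.leaf ⟨54,[48,53,48],36,0⟩)) (.node (.leaf ⟨52,[45,52,46,48],29,0⟩) (.leaf ⟨51,[56,44,47,55],45,1⟩)))) (.node (.node (.node (.leaf ⟨47,[49,47,50],14,1⟩) (.leaf ⟨55,[44,47,52,56,44],46,2⟩)) (.node (.leaf ⟨44,[48,58,44,58],64,3⟩) (.leaf ⟨54,[58,47,51,52,54,58],68,1⟩))) (.node (.node (.leaf ⟨53,[48,54,48],36,2⟩) (.leaf ⟨58,[46,58,46,47,52],66,0⟩)) (.node (.leaf ⟨55,[55,55,44,51,55],49,1⟩) (.leaf ⟨53,[45,56,50,52,55],48,1⟩))))) (.node (.node (.node (.node (.leaf ⟨48,[48],5,1⟩) (.leaf ⟨55,[47,56,47,52],44,0⟩)) (.node (.leaf ⟨54,[44,53,44],34,0⟩) (.leaf ⟨47,[55,51,56,44],45,4⟩))) (.node (.node (.leaf ⟨50,[48,49,48],15,0⟩) (.leaf ⟨51,[48,51,48],25,2⟩)) (.node (.leaf ⟨54,[45,53,46],35,0⟩) (.leaf ⟨50,[53,49,52,53],39,2⟩)))) (.node (.node (.node (.leaf ⟨48,[50,48,49],15,3⟩)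 (.leaf ⟨55,[50,57,52,45,49,57,50],59,2⟩)) (.node (.leaf ⟨51,[50,51,49],27,2⟩) (.leaf ⟨57,[44,51,57,44,51],52,0⟩))) (.node (.node (.leaf ⟨51,[55,44,56,47],43,4⟩) (.leaf ⟨56,[44,55,44,47,52],46,0⟩)) (.node (.leaf ⟨52,[44,52,44],21,2⟩) (.leaf ⟨57,[58,57,47,57,58,56,57,58,47,48,58,57,55,58,57,47],70,6⟩))))))) (.node (.node (.node (.node (.node (.node (.node (.leaf ⟨44,[44],0,1⟩) (.leaf ⟨57,[58,57,58,44,46,57,58,57,46,58,57,58,57,58,45,57,58,57,46,58],71,14⟩)) (.leaf ⟨52,[46,48,52,45],29,2⟩)) (.node (.leaf ⟨48,[52,48,52],26,1⟩) (.leaf ⟨58,[51,58,51],63,2⟩))) (.node (.node (.leaf ⟨44,[53,44,54],34,1⟩) (.leaf ⟨51,[49,51,50],27,0⟩)) (.node (.leaf ⟨46,[47,52,58,46,58],66,3⟩) (.leaf ⟨50,[57,52,45,49,57,50,55],59,3⟩)))) (.node (.node (.node (.leaf ⟨45,[45,44],3,0⟩) (.leaf ⟨50,[51,54,56,46,55],47,3⟩)) (.node (.leaf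 ⟨44,[54,44,53],34,3⟩) (.leaf ⟨50,[52,55,53,45,56],48,4⟩))) (.node (.node (.leaf ⟨48,[54,47,53,47],38,4⟩) (.leaf ⟨51,[47,51,47],23,0⟩)) (.node (.leaf ⟨56,[47,51,55,44],43,2⟩) (.leaf ⟨49,[52,53,50,53],39,4⟩))))) (.node (.node (.node (.node (.leaf ⟨56,[55],40,1⟩) (.leaf ⟨50,[51,49,51],27,3⟩)) (.node (.leaf ⟨44,[51,53,53],33,2⟩) (.leaf ⟨45,[57,46,57,51,57],55,1⟩))) (.node (.node (.leaf ⟨44,[47,44,47],6,1⟩) (.leaf ⟨55,[48,56,48],42,2⟩)) (.node (.leaf ⟨52,[53,52,54],37,1⟩) (.leaf ⟨47,[48,49,49,44],16,3⟩)))) (.node (.node (.node (.leaf ⟨45,[53,46,54],35,1⟩) (.leaf ⟨57,[44,53,57,44,54],53,0⟩)) (.node (.leaf ⟨51,[46,51,45],22,2⟩) (.leaf ⟨55,[55,55,55,44,51],49,0⟩))) (.node (.node (.leaf ⟨44,[47,55,51,56],45,3⟩) (.leaf ⟨47,[51,47,51],23,3⟩)) (.node (.leaf ⟨48,[45,48,46],9,0⟩) (.leaf ⟨50,[56,57,55,57,50,57],56,5⟩))))))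 (.node (.node (.node (.node (.node (.node (.leaf ⟨49,[50],11,0⟩) (.leaf ⟨44,[51,57,44,51,57],52,1⟩)) (.leaf ⟨55,[51,56,44,47],45,0⟩)) (.node (.leaf ⟨48,[55,48,56],42,1⟩) (.leaf ⟨52,[44,52,44],21,0⟩))) (.node (.node (.leaf ⟨48,[49,48,50],15,1⟩) (.leaf ⟨56,[48,55,48],42,0⟩)) (.node (.leaf ⟨51,[52,58,50,58,50],67,4⟩) (.leaf ⟨45,[52,46,48,52],29,1⟩)))) (.node (.node (.node (.leaf ⟨44,[49,44,50],13,1⟩) (.leaf ⟨55,[53,45,56,50,52],48,0⟩)) (.node (.leaf ⟨58,[44,48,58,44],64,2⟩) (.leaf ⟨47,[51,47,51],23,1⟩))) (.node (.node (.leaf ⟨48,[53,48,54],36,1⟩) (.leaf ⟨52,[55,47,56,47],44,4⟩)) (.node (.leaf ⟨53,[47,57,47,54,56,57,55],57,2⟩) (.leaf ⟨44,[51,55,55,55,55],49,4⟩))))) (.node (.node (.node (.node (.leaf ⟨52,[52],19,1⟩) (.leaf ⟨46,[57,51,57,45,57],55,3⟩)) (.node (.leaf ⟨44,[55,57,51,55,57],54,1⟩) (.leaf ⟨57,[44,51,57,44,51],52,3⟩)))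 (.node (.node (.leaf ⟨49,[44,50,44],13,2⟩) (.leaf ⟨52,[48,50,52,49],30,2⟩)) (.node (.leaf ⟨54,[47,53,47,48],38,0⟩) (.leaf ⟨58,[46,47,52,58,46],66,2⟩)))) (.node (.node (.node (.leaf ⟨49,[51,50,51],27,1⟩) (.leaf ⟨49,[46,47,50,45],17,2⟩)) (.node (.leaf ⟨52,[58,52,58,48],65,4⟩) (.leaf ⟨58,[52,58,48,52],65,0⟩))) (.node (.node (.leaf ⟨49,[44,47,48,49],16,1⟩) (.leaf ⟨50,[52,49,52,48],30,4⟩)) (.node (.leaf ⟨50,[44,49,44],13,0⟩) (.leaf ⟨56,[57,58,47,48,58,57,55,58,57,47,57,58,57,47,57,58],70,12⟩)))))))) (.node (.node (.node (.node (.node (.node (.node (.node (.leaf ⟨57,[57],51,1⟩) (.leaf ⟨57,[58,57,46,58,57,58,57,58,44,46,57,58,57,46,58,57,58,57,58,45],71,9⟩)) (.leaf ⟨52,[58,46,58,46,47],66,5⟩)) (.node (.leaf ⟨56,[47,52,55,47],44,2⟩) (.leaf ⟨52,[51,52,51],28,1⟩))) (.node (.node (.leaf ⟨44,[52,44,52],21,3⟩) (.leaf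 ⟨58,[48,58,48],62,2⟩)) (.node (.leaf ⟨52,[57,47,57,52,57,47,57],58,7⟩) (.leaf ⟨47,[50,45,49,46],17,4⟩)))) (.node (.node (.node (.leaf ⟨44,[45,45],3,2⟩) (.leaf ⟨54,[57,44,53,57,44],53,5⟩)) (.node (.leaf ⟨53,[57,44,54,57,44],53,2⟩) (.leaf ⟨47,[56,47,52,55],44,1⟩))) (.node (.node (.leaf ⟨49,[48,50,48],15,2⟩) (.leaf ⟨51,[47,51,47],23,2⟩)) (.node (.leaf ⟨55,[57,44,55,57,51],54,5⟩) (.leaf ⟨58,[50,58,50,51,52],67,0⟩))))) (.node (.node (.node (.node (.leaf ⟨54,[53],31,1⟩) (.leaf ⟨58,[47,58,47],61,0⟩)) (.node (.leaf ⟨51,[53,53,44],33,3⟩) (.leaf ⟨57,[44,55,57,51,55],54,0⟩))) (.node (.node (.leaf ⟨48,[44,48,44],7,0⟩) (.leaf ⟨47,[46,47,45],8,2⟩)) (.node (.leaf ⟨51,[52,54,58,54,58,47],68,4⟩) (.leaf ⟨58,[50,51,52,58,50],67,2⟩)))) (.node (.node (.node (.leaf ⟨45,[48,46,48],9,1⟩) (.leaf ⟨55,[55,44,51,55,55],49,2⟩)) (.node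 (.leaf ⟨48,[54,48,53],36,3⟩) (.leaf ⟨55,[44,51,55,55,55],49,3⟩))) (.node (.node (.leaf ⟨53,[50,53,49,52],39,1⟩) (.leaf ⟨51,[52,51,52],28,0⟩)) (.node (.leaf ⟨48,[47,48,47],10,3⟩) (.leaf ⟨47,[54,56,57,55,53,47,57],57,5⟩)))))) (.node (.node (.node (.node (.node (.node (.leaf ⟨47,[47],4,1⟩) (.leaf ⟨58,[57,58,44,46,57,58,57,46,58,57,58,57,58,45,57,58,57,46,58,57],71,15⟩)) (.leaf ⟨57,[51,57,45,57,46],55,4⟩)) (.node (.leaf ⟨48,[58,48,58],62,3⟩) (.leaf ⟨45,[56,50,52,55,53],48,2⟩))) (.node (.node (.leaf ⟨47,[52,47,52],24,3⟩) (.leaf ⟨51,[48,51,48],25,0⟩)) (.node (.leaf ⟨50,[51,52,58,50,58],67,3⟩) (.leaf ⟨44,[52,44,52],21,1⟩)))) (.node (.node (.node (.leaf ⟨44,[47,44,47],6,3⟩) (.leaf ⟨53,[47,55,50,58,56,58],69,4⟩)) (.node (.leaf ⟨48,[58,44,58,44],64,4⟩) (.leaf ⟨58,[51,58,51],63,0⟩))) (.node (.node (.leaf ⟨53,[47,48,54,47],38,2⟩)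 (.leaf ⟨47,[58,47,58],61,1⟩)) (.node (.leaf ⟨57,[50,57,50,56,57,55],56,2⟩) (.leaf ⟨47,[52,58,46,58,46],66,4⟩))))) (.node (.node (.node (.node (.leaf ⟨51,[51],18,1⟩) (.leaf ⟨51,[57,45,57,46,57],55,5⟩)) (.node (.leaf ⟨57,[46,57,51,57,45],55,2⟩) (.leaf ⟨52,[56,44,55,44,47],46,5⟩))) (.node (.node (.leaf ⟨48,[44,48,44],7,2⟩) (.leaf ⟨58,[48,58,48],62,0⟩)) (.node (.leaf ⟨53,[46,54,45],35,2⟩) (.leaf ⟨44,[55,44,47,52,56],46,1⟩)))) (.node (.node (.node (.leaf ⟨48,[56,48,55],42,3⟩) (.leaf ⟨46,[55,50,51,54,56],47,1⟩)) (.node (.leaf ⟨51,[55,57,44,55,57],54,4⟩) (.leaf ⟨52,[58,50,58,50,51],67,5⟩))) (.node (.node (.leaf ⟨44,[48,44,48],7,1⟩) (.leaf ⟨57,[44,54,57,44,53],53,3⟩)) (.node (.leaf ⟨52,[47,52,47],24,2⟩) (.leaf ⟨57,[47,57,58,56,57,58,47,48,58,57,55,58,57,47,57,58],70,8⟩))))))) (.node (.node (.node (.node (.node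 (.node (.node (.leaf ⟨46,[45],1,1⟩) (.leaf ⟨57,[58,45,57,58,57,46,58,57,58,57,58,44,46,57,58,57,46,58,57,58],71,6⟩)) (.leaf ⟨50,[58,50,51,52,58],67,1⟩)) (.node (.leaf ⟨47,[58,47,58],61,3⟩) (.leaf ⟨44,[51,57,44,51,57],52,4⟩))) (.node (.node (.leaf ⟨52,[54,52,53],37,3⟩) (.leaf ⟨51,[58,51,58],63,1⟩)) (.node (.leaf ⟨46,[58,46,47,52,58],66,1⟩) (.leaf ⟨48,[51,48,51],25,3⟩)))) (.node (.node (.node (.leaf ⟨45,[47,46,47],8,1⟩) (.leaf ⟨55,[44,56,47,51],43,0⟩)) (.node (.leaf ⟨51,[44,51,44],20,2⟩) (.leaf ⟨51,[55,55,55,55,44],49,5⟩))) (.node (.node (.leaf ⟨56,[44,47,55,51],45,2⟩) (.leaf ⟨56,[50,52,55,53,45],48,3⟩)) (.node (.leaf ⟨55,[50,51,54,56,46],47,2⟩) (.leaf ⟨47,[48,54,47,53],38,3⟩))))) (.node (.node (.node (.node (.leaf ⟨53,[54],31,0⟩) (.leaf ⟨56,[46,55,50,51,54],47,0⟩)) (.node (.leaf ⟨51,[44,51,44],20,0⟩) (.leaf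 ⟨48,[51,48,51],25,1⟩))) (.node (.node (.leaf ⟨49,[47,50,47],14,2⟩) (.leaf ⟨44,[51,44,51],20,3⟩)) (.node (.leaf ⟨52,[48,52,48],26,2⟩) (.leaf ⟨48,[50,52,49,52],30,3⟩)))) (.node (.node (.node (.leaf ⟨47,[48,47,48],10,2⟩) (.leaf ⟨54,[56,57,55,53,47,57,47],57,6⟩)) (.node (.leaf ⟨51,[45,51,46],22,0⟩) (.leaf ⟨47,[48,47,48],10,0⟩))) (.node (.node (.leaf ⟨48,[49,49,44,47],16,4⟩) (.leaf ⟨51,[52,51,52],28,2⟩)) (.node (.leaf ⟨52,[55,53,45,56,50],48,5⟩) (.leaf ⟨58,[57,47,57,58,56,57,58,47,48,58,57,55,58,57,47,57],70,7⟩)))))) (.node (.node (.node (.node (.node (.node (.leaf ⟨55,[56],40,0⟩) (.leaf ⟨58,[53,47,55,50,58,56],69,3⟩)) (.leaf ⟨49,[57,50,55,50,57,52,45],59,7⟩)) (.node (.leaf ⟨51,[58,51,58],63,3⟩) (.leaf ⟨52,[47,52,47],24,0⟩))) (.node (.node (.leaf ⟨57,[45,57,46,57,51],55,0⟩) (.leaf ⟨46,[51,45,51],22,3⟩)) (.node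 (.leaf ⟨52,[51,52,51],28,3⟩) (.leaf ⟨54,[56,46,55,50,51],47,5⟩)))) (.node (.node (.node (.leaf ⟨46,[47,45,47],8,3⟩) (.leaf ⟨44,[54,57,44,53,57],53,4⟩)) (.node (.leaf ⟨44,[58,44,48,58],64,1⟩) (.leaf ⟨52,[48,52,48],26,0⟩))) (.node (.node (.leaf ⟨52,[53,50,53,49],39,0⟩) (.leaf ⟨53,[52,54,52],37,2⟩)) (.node (.leaf ⟨55,[57,51,55,57,44],54,2⟩) (.leaf ⟨51,[57,44,51,57,44],52,2⟩))))) (.node (.node (.node (.node (.leaf ⟨45,[44,45],3,1⟩) (.leaf ⟨48,[52,45,52,46],29,4⟩)) (.node (.leaf ⟨44,[53,57,44,54,57],53,1⟩) (.leaf ⟨44,[56,47,51,55],43,1⟩))) (.node (.node (.leaf ⟨45,[49,46,47,50],17,1⟩) (.leaf ⟨47,[52,47,52],24,1⟩)) (.node (.leaf ⟨56,[58,53,47,55,50,58],69,2⟩) (.leaf ⟨44,[47,52,56,44,55],46,3⟩)))) (.node (.node (.node (.leaf ⟨46,[54,45,53],35,3⟩) (.leaf ⟨44,[51,44,51],20,1⟩)) (.node (.leaf ⟨48,[52,58,52,58],65,3⟩)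 (.leaf ⟨49,[52,48,50,52],30,1⟩))) (.node (.node (.leaf ⟨52,[49,52,48,50],30,0⟩) (.leaf ⟨46,[48,52,45,52],29,3⟩)) (.node (.leaf ⟨45,[51,46,51],22,1⟩) (.leaf ⟨55,[58,57,47,57,58,57,47,57,58,56,57,58,47,48,58,57],70,2⟩)))))))))
noncomputable def tc1 : TCL := ⟨[44,45,46,47,48,49,50,51,52,53,54,55,56,57,58], [44,45,46,47,48,49,50,51,52,53,54,55,56,57], 1755, 36, 0xffff, 16, 0x1ff,
  fun a x => look 0xfffffffff (nth tc1T 0 a) x, fun x => look 0xfffffffff tc1d x, tc1r⟩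
noncomputable def tc2T : List ℕ := [0,0,0,0,0,0,0,0,0,0,0,0,0,0,0,0,0,0,0,0,0,0,0,0,0,0,0,0,0,0,0,0,0,0,0,0,0,0,0,0,0,0,0,0,tc2t44,tc2t45,tc2t46,tc2t47,tc2t48,tc2t49,tc2t50,tc2t51,tc2t52,tc2t53,tc2t54,tc2t55,tc2t56,tc2t57]
noncomputable def tc2r : Tr Rule := (.node (.node (.node (.node (.node (.node (.node (.leaf ⟨57,[57],51,1⟩) (.leaf ⟨50,[47,49,47],14,0⟩)) (.leaf ⟨44,[55,57,51,55,57],54,1⟩)) (.node (.leaf ⟨54,[57,44,53,57,44],53,5⟩) (.leaf ⟨48,[45,48,46],9,0⟩))) (.node (.node (.leaf ⟨44,[50,44,49],13,3⟩) (.leaf ⟨53,[44,54,44],34,2⟩)) (.node (.leaf ⟨56,[47,51,55,44],43,2⟩) (.leaf ⟨49,[57,50,55,50,57,52,45],59,7⟩)))) (.node (.node (.node (.node (.leaf ⟨47,[47],4,1⟩) (.leaf ⟨48,[52,45,52,46],29,4⟩)) (.leaf ⟨52,[44,52,44],21,2⟩)) (.node (.leaf ⟨53,[46,54,45],35,2⟩) (.leaf ⟨52,[46,48,52,45],29,2⟩))) (.node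 (.node (.leaf ⟨51,[51],18,1⟩) (.leaf ⟨48,[56,48,55],42,3⟩)) (.node (.leaf ⟨57,[46,57,51,57,45],55,2⟩) (.leaf ⟨57,[50,55,50,57,52,45,49],59,0⟩))))) (.node (.node (.node (.node (.node (.leaf ⟨46,[45],1,1⟩) (.leaf ⟨51,[57,45,57,46,57],55,5⟩)) (.leaf ⟨47,[44,47,44],6,0⟩)) (.node (.leaf ⟨53,[54],31,0⟩) (.leaf ⟨52,[53,50,53,49],39,0⟩))) (.node (.node (.leaf ⟨45,[45,44],3,0⟩) (.leaf ⟨48,[44,48,44],7,2⟩)) (.node (.leaf ⟨55,[55,55,44,51,55],49,1⟩) (.leaf ⟨45,[49,57,50,55,50,57,52],59,6⟩)))) (.node (.node (.node (.node (.leaf ⟨55,[56],40,0⟩) (.leaf ⟨50,[51,54,56,46,55],47,3⟩)) (.leaf ⟨54,[56,57,55,53,47,57,47],57,6⟩)) (.node (.leaf ⟨55,[57,44,55,57,51],54,5⟩) (.leaf ⟨50,[44,49,44],13,0⟩))) (.node (.node (.leaf ⟨51,[45,51,46],22,0⟩) (.leaf ⟨54,[44,53,44],34,0⟩)) (.node (.leaf ⟨57,[50,57,50,56,57,55],56,2⟩) (.leaf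 ⟨47,[46,47,45],8,2⟩)))))) (.node (.node (.node (.node (.node (.node (.leaf ⟨44,[44],0,1⟩) (.leaf ⟨56,[46,55,50,51,54],47,0⟩)) (.leaf ⟨51,[55,57,44,55,57],54,4⟩)) (.node (.leaf ⟨53,[57,44,54,57,44],53,2⟩) (.leaf ⟨48,[50,48,49],15,3⟩))) (.node (.node (.leaf ⟨44,[45,45],3,2⟩) (.leaf ⟨48,[54,47,53,47],38,4⟩)) (.node (.leaf ⟨55,[50,51,54,56,46],47,2⟩) (.leaf ⟨50,[55,50,57,52,45,49,57],59,1⟩)))) (.node (.node (.node (.node (.leaf ⟨49,[50],11,0⟩) (.leaf ⟨47,[51,55,44,56],43,3⟩)) (.leaf ⟨52,[47,52,47],24,2⟩)) (.node (.leaf ⟨54,[45,53,46],35,0⟩) (.leaf ⟨50,[49],11,1⟩))) (.node (.node (.leaf ⟨51,[46,51,45],22,2⟩) (.leaf ⟨53,[44,51,53],33,1⟩)) (.node (.leaf ⟨57,[45,57,46,57,51],55,0⟩) (.leaf ⟨47,[49,47,50],14,1⟩))))) (.node (.node (.node (.node (.node (.leaf ⟨45,[46],1,0⟩) (.leaf ⟨46,[57,51,57,45,57],55,3⟩)) (.leaf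 ⟨52,[55,53,45,56,50],48,5⟩)) (.node (.leaf ⟨54,[53],31,1⟩) (.leaf ⟨49,[44,47,48,49],16,1⟩))) (.node (.node (.leaf ⟨51,[57,44,51,57,44],52,5⟩) (.leaf ⟨48,[47,48,47],10,3⟩)) (.node (.leaf ⟨57,[51,57,45,57,46],55,4⟩) (.leaf ⟨55,[50,57,52,45,49,57,50],59,2⟩)))) (.node (.node (.node (.leaf ⟨45,[44,45],3,1⟩) (.leaf ⟨53,[47,57,47,54,56,57,55],57,2⟩)) (.node (.leaf ⟨56,[55],40,1⟩) (.leaf ⟨52,[57,47,57,52,57,47,57],58,3⟩))) (.node (.node (.leaf ⟨51,[50,51,49],27,2⟩) (.leaf ⟨48,[46,48,45],9,2⟩)) (.node (.leaf ⟨55,[57,51,55,57,44],54,2⟩) (.leaf ⟨46,[51,45,51],22,3⟩)))))))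
noncomputable def tc2 : TCL := ⟨[44,45,46,47,48,49,50,51,52,53,54,55,56,57], [44,45,46,47,48,49,50,51,52,53,54,55,56], 10, 20, 0xff, 8, 0x7f,
  fun a x => look 0xfffff (nth tc2T 0 a) x, fun x => look 0xfffff tc2d x, tc2r⟩
noncomputable def tc3T : List ℕ := [0,0,0,0,0,0,0,0,0,0,0,0,0,0,0,0,0,0,0,0,0,0,0,0,0,0,0,0,0,0,0,0,0,0,0,0,0,0,0,0,0,0,0,0,tc3t44,tc3t45,tc3t46,tc3t47,tc3t48,tc3t49,tc3t50,tc3t51,tc3t52,tc3t53,tc3t54,tc3t55,tc3t56]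
noncomputable def tc3r : Tr Rule := (.node (.node (.node (.node (.node (.node (.leaf ⟨56,[55],40,1⟩) (.leaf ⟨53,[44,51,53],33,1⟩)) (.leaf ⟨44,[55,44,47,52,56],46,1⟩)) (.node (.node (.leaf ⟨44,[56,47,51,55],43,1⟩) (.leaf ⟨53,[55,50,55,45,55,55],50,6⟩)) (.leaf ⟨52,[54,52,53],37,3⟩))) (.node (.node (.node (.leaf ⟨48,[56,48,55],42,3⟩) (.leaf ⟨45,[44,45],3,1⟩)) (.leaf ⟨47,[53,47,48,54],38,1⟩)) (.node (.leaf ⟨47,[46,47,45],8,2⟩) (.leaf ⟨45,[53,46,54],35,1⟩)))) (.node (.node (.node (.node (.leaf ⟨54,[53],31,1⟩) (.leaf ⟨49,[52,53,50,53],39,4⟩)) (.leaf ⟨52,[46,48,52,45],29,2⟩)) (.node (.node (.leaf ⟨44,[45,45],3,2⟩) (.leaf ⟨50,[55,45,55,55,53,55],50,1⟩)) (.leaf ⟨46,[55,50,51,54,56],47,1⟩))) (.node (.node (.node (.leaf ⟨48,[45,48,46],9,0⟩) (.leaf ⟨55,[55,44,51,55,55],49,2⟩)) (.leaf ⟨52,[55,47,56,47],44,4⟩)) (.node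 (.leaf ⟨51,[46,51,45],22,2⟩) (.leaf ⟨53,[45,56,50,52,55],48,1⟩))))) (.node (.node (.node (.node (.node (.leaf ⟨55,[56],40,0⟩) (.leaf ⟨54,[45,53,46],35,0⟩)) (.leaf ⟨44,[53,44,54],34,1⟩)) (.node (.node (.leaf ⟨45,[45,44],3,0⟩) (.leaf ⟨55,[53,55,50,55,45,55],50,5⟩)) (.leaf ⟨51,[53,53,44],33,3⟩))) (.node (.node (.node (.leaf ⟨48,[55,48,56],42,1⟩) (.leaf ⟨50,[51,54,56,46,55],47,3⟩)) (.leaf ⟨51,[55,44,56,47],43,4⟩)) (.node (.leaf ⟨51,[56,44,47,55],45,1⟩) (.leaf ⟨50,[52,55,53,45,56],48,4⟩)))) (.node (.node (.node (.node (.leaf ⟨46,[45],1,1⟩) (.leaf ⟨50,[49],11,1⟩)) (.leaf ⟨47,[55,51,56,44],45,4⟩)) (.node (.node (.leaf ⟨47,[56,47,52,55],44,1⟩) (.leaf ⟨53,[54],31,0⟩)) (.leaf ⟨45,[46],1,0⟩))) (.node (.node (.node (.leaf ⟨48,[53,48,54],36,1⟩) (.leaf ⟨55,[55,53,55,50,55,45],50,4⟩)) (.leaf ⟨53,[53,44,51],33,0⟩)) (.node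 (.leaf ⟨52,[56,44,55,44,47],46,5⟩) (.leaf ⟨49,[50],11,0⟩))))))
noncomputable def tc3 : TCL := ⟨[44,45,46,47,48,49,50,51,52,53,54,55,56], [44,45,46,47,48,49,50,51,52,53,54], 8, 20, 0xff, 8, 0x3f,
  fun a x => look 0xfffff (nth tc3T 0 a) x, fun x => look 0xfffff tc3d x, tc3r⟩
noncomputable def tc4T : List ℕ := [0,0,0,0,0,0,0,0,0,0,0,0,0,0,0,0,0,0,0,0,0,0,0,0,0,0,0,0,0,0,0,0,0,0,0,0,0,0,0,0,0,0,0,0,tc4t44,tc4t45,tc4t46,tc4t47,tc4t48,tc4t49,tc4t50,tc4t51,tc4t52,tc4t53,tc4t54]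
noncomputable def tc4r : Tr Rule := (.node (.node (.node (.node (.leaf ⟨54,[53],31,1⟩) (.leaf ⟨47,[48,54,47,53],38,3⟩)) (.leaf ⟨46,[54,45,53],35,3⟩)) (.node (.node (.leaf ⟨44,[54,44,53],34,3⟩) (.leaf ⟨49,[52,53,50,53],39,4⟩)) (.leaf ⟨48,[54,48,53],36,3⟩))) (.node (.node (.node (.leaf ⟨53,[53,44,51],33,0⟩) (.leaf ⟨50,[53,49,52,53],39,2⟩)) (.leaf ⟨45,[53,46,54],35,1⟩)) (.node (.leaf ⟨51,[53,53,44],33,3⟩) (.leaf ⟨52,[54,52,53],37,3⟩))))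
noncomputable def tc4 : TCL := ⟨[44,45,46,47,48,49,50,51,52,53,54], [44,45,46,47,48,49,50,51,52], 2, 16, 0x3f, 6, 0xf,
  fun a x => look 0xffff (nth tc4T 0 a) x, fun x => look 0xffff tc4d x, tc4r⟩
noncomputable def tc5T : List ℕ := [0,0,0,0,0,0,0,0,0,0,0,0,0,0,0,0,0,0,0,0,0,0,0,0,0,0,0,0,0,0,0,0,0,0,0,0,0,0,0,0,0,0,0,0,tc5t44,tc5t45,tc5t46,tc5t47,tc5t48,tc5t49,tc5t50,tc5t51,tc5t52]
noncomputable def tc5r : Tr Rule := (.node (.node (.node (.node (.node (.leaf ⟨51,[51],18,1⟩) (.leaf ⟨49,[52,48,50,52],30,1⟩)) (.leaf ⟨48,[51,48,51],25,3⟩)) (.node (.leaf ⟨46,[51,45,51],22,3⟩) (.leaf ⟨51,[52,51,52],28,2⟩))) (.node (.node (.leaf ⟨44,[51,44,51],20,3⟩) (.leaf ⟨50,[51,49,51],27,3⟩)) (.node (.leaf ⟨47,[51,47,51],23,3⟩) (.leaf ⟨45,[52,46,48,52],29,1⟩)))) (.node (.node (.node (.leaf ⟨52,[52],19,1⟩) (.leaf ⟨48,[52,48,52],26,3⟩))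 (.node (.leaf ⟨45,[51,46,51],22,1⟩) (.leaf ⟨46,[48,52,45,52],29,3⟩))) (.node (.node (.leaf ⟨44,[52,44,52],21,3⟩) (.leaf ⟨49,[51,50,51],27,1⟩)) (.node (.leaf ⟨47,[52,47,52],24,3⟩) (.leaf ⟨50,[52,49,52,48],30,4⟩)))))
noncomputable def tc5 : TCL := ⟨[44,45,46,47,48,49,50,51,52], [44,45,46,47,48,49,50], 4, 16, 0x7f, 7, 0x1f,
  fun a x => look 0xffff (nth tc5T 0 a) x, fun x => look 0xffff tc5d x, tc5r⟩
noncomputable def tc6T : List ℕ := [0,0,0,0,0,0,0,0,0,0,0,0,0,0,0,0,0,0,0,0,0,0,0,0,0,0,0,0,0,0,0,0,0,0,0,0,0,0,0,0,0,0,0,0,tc6t44,tc6t45,tc6t46,tc6t47,tc6t48,tc6t49,tc6t50]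
noncomputable def tc6r : Tr Rule := (.node (.node (.node (.leaf ⟨50,[49],11,1⟩) (.leaf ⟨49,[44,47,48,49],16,1⟩)) (.node (.leaf ⟨47,[49,47,50],14,1⟩) (.leaf ⟨45,[49,46,47,50],17,1⟩))) (.node (.node (.leaf ⟨44,[49,44,50],13,1⟩) (.leaf ⟨46,[47,50,45,49],17,3⟩)) (.leaf ⟨48,[49,48,50],15,1⟩)))
noncomputable def tc6 : TCL := ⟨[44,45,46,47,48,49,50], [44,45,46,47,48], 2, 16, 0x3f, 6, 0xf,
  fun a x => look 0xffff (nth tc6T 0 a) x, fun x => look 0xffff tc6d x, tc6r⟩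
noncomputable def tc7T : List ℕ := [0,0,0,0,0,0,0,0,0,0,0,0,0,0,0,0,0,0,0,0,0,0,0,0,0,0,0,0,0,0,0,0,0,0,0,0,0,0,0,0,0,0,0,0,tc7t44,tc7t45,tc7t46,tc7t47,tc7t48]
noncomputable def tc7r : Tr Rule := (.node (.node (.node (.node (.leaf ⟨47,[47],4,1⟩) (.leaf ⟨47,[48,47,48],10,2⟩)) (.leaf ⟨46,[47,45,47],8,3⟩)) (.node (.leaf ⟨44,[47,44,47],6,3⟩) (.leaf ⟨46,[48,45,48],9,3⟩))) (.node (.node (.leaf ⟨48,[48],5,1⟩) (.leaf ⟨45,[47,46,47],8,1⟩)) (.node (.leaf ⟨44,[48,44,48],7,3⟩) (.leaf ⟨45,[48,46,48],9,1⟩))))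
noncomputable def tc7 : TCL := ⟨[44,45,46,47,48], [44,45,46], 4, 16, 0x7f, 7, 0xf,
  fun a x => look 0xffff (nth tc7T 0 a) x, fun x => look 0xffff tc7d x, tc7r⟩
noncomputable def tc8T : List ℕ := [0,0,0,0,0,0,0,0,0,0,0,0,0,0,0,0,0,0,0,0,0,0,0,0,0,0,0,0,0,0,0,0,0,0,0,0,0,0,0,0,0,0,0,0,tc8t44,tc8t45,tc8t46]
noncomputable def tc8r : Tr Rule := (.node (.node (.leaf ⟨46,[45],1,1⟩) (.leaf ⟨44,[45,45],3,2⟩)) (.leaf ⟨45,[45,44],3,0⟩))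
noncomputable def tc8 : TCL := ⟨[44,45,46], [44], 2, 16, 0x3f, 6, 0x7,
  fun a x => look 0xffff (nth tc8T 0 a) x, fun x => look 0xffff tc8d x, tc8r⟩
noncomputable def tc9T : List ℕ := [0,0,0,0,0,0,0,0,0,0,0,0,0,0,0,0,0,0,0,0,0,0,0,0,0,0,0,0,0,0,0,0,0,0,0,0,0,0,0,0,0,0,0,0,tc9t44]
noncomputable def tc9r : Tr Rule := (.leaf ⟨44,[44],0,1⟩)
noncomputable def tc9 : TCL := ⟨[44], [], 2, 16, 0x3f, 6, 0x3,
  fun a x => look 0xffff (nth tc9T 0 a) x, fun x => look 0xffff tc9d x, tc9r⟩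
noncomputable def tc : List TCL := [tc0, tc1, tc2, tc3, tc4, tc5, tc6, tc7, tc8, tc9]
noncomputable def inW : List (List ℕ) := [[59,50,58,57,45,58,57,58,57,58,59,49,44,57,58,57,58,57,58,46,57,53,55,53,52,49,48,44],
  [57,58,50,57,58,57,58,45,57,58,59,57,58,50,57,58,53,57,58,57,58,44,57,56,53,55,53,49,48,47],
  [44,57,58,57,58,45,57,58,44,57,58,59,50,58,45,57,58,57,58,57,58,56,57,55,53,55,53,52,51,48]]
noncomputable def tcS : List ℕ := [44,45,46,47,48,49,50,51,52,53,54,55,56,57,58,59]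

end Cfsg.Agent.CG.Ru
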