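import Cfsg.Agent.Lib.Grp.Ru.ODefs

set_option autoImplicit false
set_option maxRecDepth 100000
set_option Elab.async false

namespace Cfsg.Agent.CG.Ru

theorem Oc216 : cc0.chk (appT tabs t80 0xffff) 1 79 = true := by decide +kernel
theorem Oc217 : cc1.chk (appT tabs t80 0xffff) 1 95 = true := by decide +kernel
theorem Oc218 : cc2.chk (appT tabs t80 0xffff) 1 7 = true := by decide +kernel
theorem Oc219 : cc3.chk (appT tabs t80 0xffff) 1 3 = true := by decide +kernel
theorem Oc220 : okcb 4060 16 (bases cc) = true := by decide +kernel
theorem Oc221 : headAll (appT tabs t80 0xffff) cc [] = true := by decide +kernel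
theorem Oc222 : tp0.head tpR = true := by decide +kernel
theorem Oc223 : allL (fun a => tp0.chk a 0 tp0.N) tp0.S = true := by decide +kernel
theorem Oc224 : tp1.head tpR = true := by decide +kernel
theorem Oc225 : allL (fun a => tp1.chk a 0 tp1.N) tp1.S = true := by decide +kernel
theorem Oc226 : tcLink tp [] [60,61,62,63] = true := by decide +kernel
theorem Oc227 : pc0.chk (appT tabs t80 0xffff) 1 2047 = true := by decide +kernel
theorem Oc228 : pc1.chk (appT tabs t80 0xffff) 1 7 = true := by decide +kernel
theorem Oc229 : okcb 4060 16 (bases pc) = true := by decide +kernel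
theorem Oc230 : headAll (appT tabs t80 0xffff) pc [] = true := by decide +kernel
theorem Oc231 : allL (fun v => eqW (appT tabs t80 0xffff) bs v []) tpR = true := by decide +kernel
theorem Oc232 : trChk (appT tabs t80 0xffff) mc0 [mc1, mc2, mc3, mc4, mc5, mc6, mc7, mc8, mc9] bs (diagQ pQ) (diagQ pR) pF 0 2487 = true := by decide +kernel
theorem Oc233 : trChk (appT tabs t80 0xffff) mc0 [mc1, mc2, mc3, mc4, mc5, mc6, mc7, mc8, mc9] bs (diagQ pQ) (diagQ pR) pF 2487 1573 = true := by decide +kernel
theorem Oc234 : classChk (appT tabs t80 0xffff) bs 10 2 64 [9,11,11,13,11,19,18,20,21,23,25,30,31,39,43] pS pF pU = true := by decide +kernel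
theorem Oc235 : powChk (appT tabs t80 0xffff) bs 8 29 aK nK = true := by decide +kernel
theorem Oc236 : en.chk (appT tabs t80 0xffff) tst 0 5010 0 153179565524571488 = true := by decide +kernel
theorem Oc237 : en.chk (appT tabs t80 0xffff) tst 5010 5010 153179565524571488 306477046894168880 = true := by decide +kernel
theorem Oc238 : en.chk (appT tabs t80 0xffff) tst 10020 5010 306477046894168880 464057750835451888 = true := by decide +kernel
theorem Oc239 : en.chk (appT tabs t80 0xffff) tst 15030 5010 464057750835451888 621497643813614624 = true := by decide +kernel
theorem Oc240 : en.chk (appT tabs t80 0xffff) tst 20040 5010 621497643813614624 774746269347239424 = true := by decide +kernel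
theorem Oc241 : en.chk (appT tabs t80 0xffff) tst 25050 5010 774746269347239424 932309102938343840 = true := by decide +kernel
theorem Oc242 : en.chk (appT tabs t80 0xffff) tst 30060 5010 932309102938343840 1081097972796638704 = true := by decide +kernel
theorem Oc243 : en.chk (appT tabs t80 0xffff) tst 35070 5010 1081097972796638704 1234235066036548240 = true := by decide +kernel
theorem Oc244 : en.chk (appT tabs t80 0xffff) tst 40080 5010 1234235066036548240 1391689939364643200 = true := by decide +kernel
theorem Oc245 : en.chk (appT tabs t80 0xffff) tst 45090 5010 1391689939364643200 1540352431957769136 = true := by decide +kernel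
theorem Oc246 : en.chk (appT tabs t80 0xffff) tst 50100 5010 1540352431957769136 1698042397345235728 = true := by decide +kernel
theorem Oc247 : en.chk (appT tabs t80 0xffff) tst 55110 5010 1698042397345235728 1859999293575817504 = true := by decide +kernel
theorem Oc248 : en.chk (appT tabs t80 0xffff) tst 60120 5010 1859999293575817504 2017741210876153552 = true := by decide +kernel
theorem Oc249 : en.chk (appT tabs t80 0xffff) tst 65130 5010 2017741210876153552 2175323146821871936 = true := by decide +kernel
theorem Oc250 : en.chk (appT tabs t80 0xffff) tst 70140 5010 2175323146821871936 2337368276065110000 = true := by decide +kernel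
theorem Oc251 : en.chk (appT tabs t80 0xffff) tst 75150 5010 2337368276065110000 2499562667708043792 = true := by decide +kernel
theorem Oc252 : en.chk (appT tabs t80 0xffff) tst 80160 5010 2499562667708043792 2657337774856760176 = true := by decide +kernel
theorem Oc253 : en.chk (appT tabs t80 0xffff) tst 85170 5010 2657337774856760176 2819475608791201984 = true := by decide +kernel
theorem Oc254 : en.chk (appT tabs t80 0xffff) tst 90180 5010 2819475608791201984 2972573874857707776 = true := by decide +kernel
theorem Oc255 : en.chk (appT tabs t80 0xffff) tst 95190 5010 2972573874857707776 3134509740779954576 = true := by decide +kernel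
theorem Oc256 : en.chk (appT tabs t80 0xffff) tst 100200 5010 3134509740779954576 3296747080407609632 = true := by decide +kernel
theorem Oc257 : en.chk (appT tabs t80 0xffff) tst 105210 5010 3296747080407609632 3454423849564654832 = true := by decide +kernel

end Cfsg.Agent.CG.Ru
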