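import Cfsg.Agent.Lib.Grp.Ru.ODefs

set_option autoImplicit false
set_option maxRecDepth 100000
set_option Elab.async false

namespace Cfsg.Agent.CG.Ru

theorem Oc258 : en.chk (appT tabs t80 0xffff) tst 110220 5010 3454423849564654832 3621096137119776912 = true := by decide +kernel
theorem Oc259 : en.chk (appT tabs t80 0xffff) tst 115230 5010 3621096137119776912 3778597879777598496 = true := by decide +kernel
theorem Oc260 : en.chk (appT tabs t80 0xffff) tst 120240 5010 3778597879777598496 3936383019616614832 = true := by decide +kernel
theorem Oc261 : en.chk (appT tabs t80 0xffff) tst 125250 5010 3936383019616614832 4098518656441426128 = true := by decide +kernel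
theorem Oc262 : en.chk (appT tabs t80 0xffff) tst 130260 5010 4098518656441426128 4256103617300287600 = true := by decide +kernel
theorem Oc263 : en.chk (appT tabs t80 0xffff) tst 135270 5010 4256103617300287600 4413607557525937248 = true := by decide +kernel
theorem Oc264 : en.chk (appT tabs t80 0xffff) tst 140280 5010 4413607557525937248 4575848400448132640 = true := by decide +kernel
theorem Oc265 : en.chk (appT tabs t80 0xffff) tst 145290 5010 4575848400448132640 4737823093231208384 = true := by decide +kernel
theorem Oc266 : en.chk (appT tabs t80 0xffff) tst 150300 5010 4737823093231208384 4895453890918517936 = true := by decide +kernel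
theorem Oc267 : en.chk (appT tabs t80 0xffff) tst 155310 5010 4895453890918517936 5053233808066767088 = true := by decide +kernel
theorem Oc268 : en.chk (appT tabs t80 0xffff) tst 160320 5010 5053233808066767088 5215257154800345088 = true := by decide +kernel
theorem Oc269 : en.chk (appT tabs t80 0xffff) tst 165330 5010 5215257154800345088 5377298781260776272 = true := by decide +kernel
theorem Oc270 : en.chk (appT tabs t80 0xffff) tst 170340 5010 5377298781260776272 5535129828082102736 = true := by decide +kernel
theorem Oc271 : en.chk (appT tabs t80 0xffff) tst 175350 5010 5535129828082102736 5692692662098865008 = true := by decide +kernel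
theorem Oc272 : en.chk (appT tabs t80 0xffff) tst 180360 5010 5692692662098865008 5854808709781261936 = true := by decide +kernel
theorem Oc273 : en.chk (appT tabs t80 0xffff) tst 185370 5010 5854808709781261936 6012530696478838160 = true := by decide +kernel
theorem Oc274 : en.chk (appT tabs t80 0xffff) tst 190380 5010 6012530696478838160 6174562152709403952 = true := by decide +kernel
theorem Oc275 : en.chk (appT tabs t80 0xffff) tst 195390 5010 6174562152709403952 6332139761207093440 = true := by decide +kernel
theorem Oc276 : en.chk (appT tabs t80 0xffff) tst 200400 5010 6332139761207093440 6489762725602832080 = true := by decide +kernel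
theorem Oc277 : en.chk (appT tabs t80 0xffff) tst 205410 5010 6489762725602832080 6651842627601737376 = true := by decide +kernel
theorem Oc278 : en.chk (appT tabs t80 0xffff) tst 210420 5010 6651842627601737376 6805142034890912208 = true := by decide +kernel
theorem Oc279 : en.chk (appT tabs t80 0xffff) tst 215430 5010 6805142034890912208 6958189518084158512 = true := by decide +kernel
theorem Oc280 : en.chk (appT tabs t80 0xffff) tst 220440 5010 6958189518084158512 7111375473898219952 = true := by decide +kernel
theorem Oc281 : en.chk (appT tabs t80 0xffff) tst 225450 5010 7111375473898219952 7264372788490713520 = true := by decide +kernel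
theorem Oc282 : en.chk (appT tabs t80 0xffff) tst 230460 5010 7264372788490713520 7417488649865982848 = true := by decide +kernel

end Cfsg.Agent.CG.Ru
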