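import Cfsg.Agent.Lib.Grp.Ru.ODefs

set_option autoImplicit false
set_option maxRecDepth 100000
set_option Elab.async false

namespace Cfsg.Agent.CG.Ru

theorem Oc283 : en.chk (appT tabs t80 0xffff) tst 235470 5010 7417488649865982848 7566270095729646032 = true := by decide +kernel
theorem Oc284 : en.chk (appT tabs t80 0xffff) tst 240480 5010 7566270095729646032 7714820644754429984 = true := by decide +kernel
theorem Oc285 : en.chk (appT tabs t80 0xffff) tst 245490 5010 7714820644754429984 7867973542534474832 = true := by decide +kernel
theorem Oc286 : en.chk (appT tabs t80 0xffff) tst 250500 5010 7867973542534474832 8025511984424317760 = true := by decide +kernel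
theorem Oc287 : en.chk (appT tabs t80 0xffff) tst 255510 5010 8025511984424317760 8178756209614029552 = true := by decide +kernel
theorem Oc288 : en.chk (appT tabs t80 0xffff) tst 260520 5010 8178756209614029552 8340709807333862976 = true := by decide +kernel
theorem Oc289 : en.chk (appT tabs t80 0xffff) tst 265530 5010 8340709807333862976 8498296553789738688 = true := by decide +kernel
theorem Oc290 : en.chk (appT tabs t80 0xffff) tst 270540 5010 8498296553789738688 8660525300742907904 = true := by decide +kernel
theorem Oc291 : en.chk (appT tabs t80 0xffff) tst 275550 5010 8660525300742907904 8818271823532697616 = true := by decide +kernel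
theorem Oc292 : en.chk (appT tabs t80 0xffff) tst 280560 5010 8818271823532697616 8984898550415521040 = true := by decide +kernel
theorem Oc293 : en.chk (appT tabs t80 0xffff) tst 285570 5010 8984898550415521040 9142411974693355920 = true := by decide +kernel
theorem Oc294 : en.chk (appT tabs t80 0xffff) tst 290580 5010 9142411974693355920 9299974672584078560 = true := by decide +kernel
theorem Oc295 : en.chk (appT tabs t80 0xffff) tst 295590 5010 9299974672584078560 9457561691963303280 = true := by decide +kernel
theorem Oc296 : en.chk (appT tabs t80 0xffff) tst 300600 5010 9457561691963303280 9606306444080104176 = true := by decide +kernel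
theorem Oc297 : en.chk (appT tabs t80 0xffff) tst 305610 5010 9606306444080104176 9759550532446326944 = true := by decide +kernel
theorem Oc298 : en.chk (appT tabs t80 0xffff) tst 310620 5010 9759550532446326944 9921472242793896656 = true := by decide +kernel
theorem Oc299 : en.chk (appT tabs t80 0xffff) tst 315630 5010 9921472242793896656 10083668831345114048 = true := by decide +kernel
theorem Oc300 : en.chk (appT tabs t80 0xffff) tst 320640 5010 10083668831345114048 10245877309379756000 = true := by decide +kernel
theorem Oc301 : en.chk (appT tabs t80 0xffff) tst 325650 5010 10245877309379756000 10407934258782987472 = true := by decide +kernel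
theorem Oc302 : en.chk (appT tabs t80 0xffff) tst 330660 5010 10407934258782987472 10561172643379194144 = true := by decide +kernel
theorem Oc303 : en.chk (appT tabs t80 0xffff) tst 335670 5010 10561172643379194144 10718696721191281072 = true := by decide +kernel
theorem Oc304 : en.chk (appT tabs t80 0xffff) tst 340680 5010 10718696721191281072 10876193652396275728 = true := by decide +kernel
theorem Oc305 : en.chk (appT tabs t80 0xffff) tst 345690 5010 10876193652396275728 11033936463710444192 = true := by decide +kernel
theorem Oc306 : en.chk (appT tabs t80 0xffff) tst 350700 5010 11033936463710444192 11195976643912951968 = true := by decide +kernel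
theorem Oc307 : en.chk (appT tabs t80 0xffff) tst 355710 5010 11195976643912951968 11349074636350444768 = true := by decide +kernel

end Cfsg.Agent.CG.Ru
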