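import Cfsg.Agent.Lib.Grp.Ru.ODefs

set_option autoImplicit false
set_option maxRecDepth 100000
set_option Elab.async false

namespace Cfsg.Agent.CG.Ru

theorem Oc308 : en.chk (appT tabs t80 0xffff) tst 360720 5010 11349074636350444768 11497898138119713888 = true := by decide +kernel
theorem Oc309 : en.chk (appT tabs t80 0xffff) tst 365730 5010 11497898138119713888 11650976958649501952 = true := by decide +kernel
theorem Oc310 : en.chk (appT tabs t80 0xffff) tst 370740 5010 11650976958649501952 11808494916605091088 = true := by decide +kernel
theorem Oc311 : en.chk (appT tabs t80 0xffff) tst 375750 5010 11808494916605091088 11957239531523028832 = true := by decide +kernel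
theorem Oc312 : en.chk (appT tabs t80 0xffff) tst 380760 5010 11957239531523028832 12110418818386386336 = true := by decide +kernel
theorem Oc313 : en.chk (appT tabs t80 0xffff) tst 385770 5010 12110418818386386336 12272423197898491328 = true := by decide +kernel
theorem Oc314 : en.chk (appT tabs t80 0xffff) tst 390780 5010 12272423197898491328 12430050216666751840 = true := by decide +kernel
theorem Oc315 : en.chk (appT tabs t80 0xffff) tst 395790 5010 12430050216666751840 12583191844656038736 = true := by decide +kernel
theorem Oc316 : en.chk (appT tabs t80 0xffff) tst 400800 5010 12583191844656038736 12736405561385458368 = true := by decide +kernel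
theorem Oc317 : en.chk (appT tabs t80 0xffff) tst 405810 5010 12736405561385458368 12893848685886101248 = true := by decide +kernel
theorem Oc318 : en.chk (appT tabs t80 0xffff) tst 410820 5010 12893848685886101248 13051634169494410592 = true := by decide +kernel
theorem Oc319 : en.chk (appT tabs t80 0xffff) tst 415830 5010 13051634169494410592 13204805347750976624 = true := by decide +kernel
theorem Oc320 : en.chk (appT tabs t80 0xffff) tst 420840 5010 13204805347750976624 13362182776511532784 = true := by decide +kernel
theorem Oc321 : en.chk (appT tabs t80 0xffff) tst 425850 5010 13362182776511532784 13515456208009447040 = true := by decide +kernel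
theorem Oc322 : en.chk (appT tabs t80 0xffff) tst 430860 5010 13515456208009447040 13673193177050297392 = true := by decide +kernel
theorem Oc323 : en.chk (appT tabs t80 0xffff) tst 435870 5010 13673193177050297392 13830773945988585408 = true := by decide +kernel
theorem Oc324 : en.chk (appT tabs t80 0xffff) tst 440880 5010 13830773945988585408 13992786575812987200 = true := by decide +kernel
theorem Oc325 : en.chk (appT tabs t80 0xffff) tst 445890 5010 13992786575812987200 14150439429050740112 = true := by decide +kernel
theorem Oc326 : en.chk (appT tabs t80 0xffff) tst 450900 5010 14150439429050740112 14303516326887453680 = true := by decide +kernel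
theorem Oc327 : en.chk (appT tabs t80 0xffff) tst 455910 5010 14303516326887453680 14470072959338842064 = true := by decide +kernel
theorem Oc328 : en.chk (appT tabs t80 0xffff) tst 460920 5010 14470072959338842064 14623294644619901072 = true := by decide +kernel
theorem Oc329 : en.chk (appT tabs t80 0xffff) tst 465930 5010 14623294644619901072 14781068653743867632 = true := by decide +kernel
theorem Oc330 : en.chk (appT tabs t80 0xffff) tst 470940 5010 14781068653743867632 14947496779092852880 = true := by decide +kernel
theorem Oc331 : en.chk (appT tabs t80 0xffff) tst 475950 5010 14947496779092852880 14952057074498954288 = true := by decide +kernel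
theorem Oc332 : en.chk (appT tabs t80 0xffff) tst 480960 5010 14952057074498954288 14952145995429888464 = true := by decide +kernel

end Cfsg.Agent.CG.Ru
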