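import Cfsg.Agent.Lib.Grp.Ru.ODefs

set_option autoImplicit false
set_option maxRecDepth 100000
set_option Elab.async false

namespace Cfsg.Agent.CG.Ru

theorem Oc333 : en.chk (appT tabs t80 0xffff) tst 485970 5010 14952145995429888464 15001518743743370752 = true := by decide +kernel
theorem Oc334 : en.chk (appT tabs t80 0xffff) tst 490980 5010 15001518743743370752 15159171115494963632 = true := by decide +kernel
theorem Oc335 : en.chk (appT tabs t80 0xffff) tst 495990 5010 15159171115494963632 15321438759972559936 = true := by decide +kernel
theorem Oc336 : en.chk (appT tabs t80 0xffff) tst 501000 5010 15321438759972559936 15483628888697911728 = true := by decide +kernel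
theorem Oc337 : en.chk (appT tabs t80 0xffff) tst 506010 5010 15483628888697911728 15650051107461285760 = true := by decide +kernel
theorem Oc338 : en.chk (appT tabs t80 0xffff) tst 511020 5010 15650051107461285760 15807765812827163344 = true := by decide +kernel
theorem Oc339 : en.chk (appT tabs t80 0xffff) tst 516030 5010 15807765812827163344 15965274355447931600 = true := by decide +kernel
theorem Oc340 : en.chk (appT tabs t80 0xffff) tst 521040 5010 15965274355447931600 16123028366283523808 = true := by decide +kernel
theorem Oc341 : en.chk (appT tabs t80 0xffff) tst 526050 5010 16123028366283523808 16280742040660083744 = true := by decide +kernel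
theorem Oc342 : en.chk (appT tabs t80 0xffff) tst 531060 5010 16280742040660083744 16442817821525733088 = true := by decide +kernel
theorem Oc343 : en.chk (appT tabs t80 0xffff) tst 536070 5010 16442817821525733088 16604964653877955280 = true := by decide +kernel
theorem Oc344 : en.chk (appT tabs t80 0xffff) tst 541080 5010 16604964653877955280 16771543966987363264 = true := by decide +kernel
theorem Oc345 : en.chk (appT tabs t80 0xffff) tst 546090 5010 16771543966987363264 16938121490494141968 = true := by decide +kernel
theorem Oc346 : en.chk (appT tabs t80 0xffff) tst 551100 5010 16938121490494141968 17100179400055349056 = true := by decide +kernel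
theorem Oc347 : en.chk (appT tabs t80 0xffff) tst 556110 5010 17100179400055349056 17249059736690670816 = true := by decide +kernel
theorem Oc348 : en.chk (appT tabs t80 0xffff) tst 561120 5010 17249059736690670816 17406627240182075840 = true := by decide +kernel
theorem Oc349 : en.chk (appT tabs t80 0xffff) tst 566130 5010 17406627240182075840 17564204299763866464 = true := by decide +kernel
theorem Oc350 : en.chk (appT tabs t80 0xffff) tst 571140 5010 17564204299763866464 17721884985920608320 = true := by decide +kernel
theorem Oc351 : en.chk (appT tabs t80 0xffff) tst 576150 5010 17721884985920608320 17883983787786791776 = true := by decide +kernel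
theorem Oc352 : en.chk (appT tabs t80 0xffff) tst 581160 5010 17883983787786791776 18046038126060694320 = true := by decide +kernel
theorem Oc353 : en.chk (appT tabs t80 0xffff) tst 586170 5010 18046038126060694320 18199303383598236864 = true := by decide +kernel
theorem Oc354 : en.chk (appT tabs t80 0xffff) tst 591180 2595 18199303383598236864 18280225444901970273 = true := by decide +kernel
theorem Oc355 : commAll (appT tabs t80 0xffff) bs 10 cc = true := by decide +kernel
theorem Oc356 : relChk (appT tabs t80 0xffff) bs 8 10 rT = true := by decide +kernel

end Cfsg.Agent.CG.Ru
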