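import Cfsg.Agent.Lib.Grp.Ru.OD1
import Cfsg.Agent.Lib.Grp.Ru.OD2
import Cfsg.Agent.Lib.Grp.Ru.Defs

set_option autoImplicit false
set_option maxRecDepth 100000
set_option Elab.async false

namespace Cfsg.Agent.CG.Ru

noncomputable def cc0 : Lvl := ⟨32, [65,66,67,68], 80,
  fun i => look 0xffff cc0c (Nat.mul 16 i), fun i => look 0xff cc0p (Nat.mul 8 i),
  fun i => look 255 cc0l (Nat.mul 8 i), fun i => look 255 cc0i (Nat.mul 8 i), fun x => look 0xffff cc0q x, 5⟩
noncomputable def cc1 : Lvl := ⟨6256, [69,70,71,72], 96,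
  fun i => look 0xffff cc1c (Nat.mul 16 i), fun i => look 0xff cc1p (Nat.mul 8 i),
  fun i => look 255 cc1l (Nat.mul 8 i), fun i => look 255 cc1i (Nat.mul 8 i), fun x => look 0xffff cc1q x, 6⟩
noncomputable def cc2 : Lvl := ⟨61840, [73,74,75], 8,
  fun i => look 0xffff cc2c (Nat.mul 16 i), fun i => look 0xf cc2p (Nat.mul 4 i),
  fun i => look 255 cc2l (Nat.mul 8 i), fun i => look 255 cc2i (Nat.mul 8 i), fun x => look 0xffff cc2q x, 3⟩
noncomputable def cc3 : Lvl := ⟨63264, [76,77], 4,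
  fun i => look 0xffff cc3c (Nat.mul 16 i), fun i => look 0xf cc3p (Nat.mul 4 i),
  fun i => look 255 cc3l (Nat.mul 8 i), fun i => look 255 cc3i (Nat.mul 8 i), fun x => look 0xffff cc3q x, 2⟩
noncomputable def cc : List Lvl := [cc0, cc1, cc2, cc3]
noncomputable def pc0 : Lvl := ⟨32, [60,61,62,63], 2048,
  fun i => look 0xffff pc0c (Nat.mul 16 i), fun i => look 0xfff pc0p (Nat.mul 12 i),
  fun i => look 255 pc0l (Nat.mul 8 i), fun i => look 255 pc0i (Nat.mul 8 i), fun x => look 0xffff pc0q x, 15⟩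
noncomputable def pc1 : Lvl := ⟨6256, [60,61,62], 8,
  fun i => look 0xffff pc1c (Nat.mul 16 i), fun i => look 0xf pc1p (Nat.mul 4 i),
  fun i => look 255 pc1l (Nat.mul 8 i), fun i => look 255 pc1i (Nat.mul 8 i), fun x => look 0xffff pc1q x, 3⟩
noncomputable def pc : List Lvl := [pc0, pc1]
noncomputable def tpR : List (List ℕ) := [[60,61],
  [61,60],
  [62,62],
  [60,62,60,62],
  [60,60,60,60],
  [63,63],
  [63,61,62,63,61,62,63,62,60,63,61,62],
  [63,61,61,62,63,62,60,60,63,62,60,60,63,61,61,62],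
  [63,61,63,60,63,61,63,60,63,61,63,60,63,61,63,60],
  [63,62,63,61,63,62,63,60,63,62,63,60,63,62,63,61],
  [63,62,63,62,63,62,63,62,63,62,63,62,63,62,63,62],
  [63,62,63,62,63,61,62,60,63,60,60,63,60,60,63,61,61,62],
  [63,62,63,61,63,61,63,62,63,62,63,60,63,61,63,61,61,62],
  [63,60,63,60,63,61,63,62,63,60,63,61,63,61,63,61,61,62]]
noncomputable def tp0T : List ℕ := [0,0,0,0,0,0,0,0,0,0,0,0,0,0,0,0,0,0,0,0,0,0,0,0,0,0,0,0,0,0,0,0,0,0,0,0,0,0,0,0,0,0,0,0,0,0,0,0,0,0,0,0,0,0,0,0,0,0,0,0,tp0t60,tp0t61,tp0t62,tp0t63]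
noncomputable def tp0r : Tr Rule := (.node (.node (.node (.node (.node (.node (.node (.leaf ⟨63,[63],5,1⟩) (.leaf ⟨63,[61,63,62,63,62,63,60,63,61,63,61,61,62,63,62,63,61],12,4⟩)) (.node (.leaf ⟨62,[63,61,63,62,63,61,63,62,63,60,63,62,63,60,63],9,13⟩) (.leaf ⟨61,[62,63,62,60,60,63,62,60,60,63,61,61,62,63,61],7,2⟩))) (.node (.node (.leaf ⟨60,[63,61,61,62,63,61,61,62,63,62,60,60,63,62,60],7,11⟩) (.leaf ⟨63,[61,63,62,63,61,63,62,63,60,63,62,63,60,63,62],9,14⟩)) (.node (.leaf ⟨60,[60,63,61,61,62,63,62,63,62,63,61,62,60,63,60,60,63],11,12⟩) (.leaf ⟨61,[61,62,63,60,63,60,63,61,63,62,63,60,63,61,63,61,63],13,15⟩)))) (.node (.node (.node (.leaf ⟨62,[63,62,60,63,61,62,63,61,62,63,61],6,5⟩) (.leaf ⟨63,[62,63,61,63,61,63,62,63,62,63,60,63,61,63,61,61,62],12,0⟩)) (.node (.leaf ⟨60,[63,60,60,63,60,60,63,61,61,62,63,62,63,62,63,61,62],11,7⟩) (.leaf ⟨63,[60,63,61,63,61,63,61,61,62,63,60,63,60,63,61,63,62],13,8⟩))) (.node (.node (.leaf ⟨61,[62,63,61,62,63,61,62,63,62,60,63],6,10⟩)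 (.leaf ⟨63,[62,63,61,62,60,63,60,60,63,60,60,63,61,61,62,63,62],11,2⟩)) (.node (.leaf ⟨63,[62,63,60,63,62,63,61,63,62,63,61,63,62,63,60],9,8⟩) (.leaf ⟨63,[60,63,61,63,60,63,61,63,60,63,61,63,60,63,61],8,6⟩))))) (.node (.node (.node (.node (.leaf ⟨60,[62,60,62],3,2⟩) (.leaf ⟨61,[62,63,62,63,61,63,61,63,62,63,62,63,60,63,61,63,61],12,16⟩)) (.node (.leaf ⟨62,[63,62,63,62,63,62,63,62,63,62,63,62,63,62,63],10,9⟩) (.leaf ⟨62,[63,60,63,61,63,61,63,61,61,62,63,60,63,60,63,61,63],13,7⟩))) (.node (.node (.leaf ⟨62,[63,62,60,60,63,62,60,60,63,61,61,62,63,61,61],7,3⟩) (.leaf ⟨63,[61,63,62,63,60,63,62,63,60,63,62,63,61,63,62],9,2⟩)) (.node (.leaf ⟨62,[63,61,62,60,63,60,60,63,60,60,63,61,61,62,63,62,63],11,3⟩) (.leaf ⟨62,[63,60,63,60,63,61,63,62,63,60,63,61,63,61,63,61,61],13,17⟩)))) (.node (.node (.node (.leaf ⟨62,[60,62,60],3,3⟩) (.leaf ⟨63,[61,62,63,61,62,63,62,60,63,61,62],6,0⟩)) (.node (.leaf ⟨62,[60,63,60,60,63,60,60,63,61,61,62,63,62,63,62,63,61],11,6⟩)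 (.leaf ⟨61,[63,61,61,62,63,60,63,60,63,61,63,62,63,60,63,61,63],13,13⟩))) (.node (.node (.leaf ⟨62,[63,60,63,62,63,61,63,62,63,61,63,62,63,60,63],9,9⟩) (.leaf ⟨60,[60,63,62,60,60,63,61,61,62,63,61,61,62,63,62],7,6⟩)) (.node (.leaf ⟨62,[63,60,63,61,63,61,61,62,63,62,63,61,63,61,63,62,63],12,9⟩) (.leaf ⟨60,[63,61,63,60,63,61,63,60,63,61,63,60,63,61,63],8,3⟩)))))) (.node (.node (.node (.node (.node (.leaf ⟨60,[61],0,0⟩) (.leaf ⟨61,[63,62,63,62,63,60,63,61,63,61,61,62,63,62,63,61,63],12,5⟩)) (.node (.leaf ⟨61,[63,62,63,61,63,62,63,60,63,62,63,60,63,62,63],9,15⟩) (.leaf ⟨61,[63,60,63,61,63,60,63,61,63,60,63,61,63,60,63],8,13⟩))) (.node (.node (.leaf ⟨61,[62,63,61,61,62,63,62,60,60,63,62,60,60,63,61],7,14⟩) (.leaf ⟨62,[60,60,63,62,60,60,63,61,61,62,63,61,61,62,63],7,5⟩)) (.node (.leaf ⟨63,[61,61,62,63,62,63,62,63,61,62,60,63,60,60,63,60,60],11,14⟩) (.leaf ⟨60,[63,60,63,61,63,62,63,60,63,61,63,61,63,61,61,62,63],13,1⟩)))) (.node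 (.node (.node (.leaf ⟨61,[62,63,62,60,63,61,62,63,61,62,63],6,4⟩) (.leaf ⟨62,[63,62,63,61,63,61,63,62,63,62,63,60,63,61,63,61,61],12,17⟩)) (.node (.leaf ⟨63,[60,60,63,60,60,63,61,61,62,63,62,63,62,63,61,62,60],11,8⟩) (.leaf ⟨63,[61,61,62,63,60,63,60,63,61,63,62,63,60,63,61,63,61],13,14⟩))) (.node (.node (.leaf ⟨61,[63,60,63,61,63,60,63,61,63,60,63,61,63,60,63],8,9⟩) (.leaf ⟨62,[63,62,63,62,63,62,63,62,63,62,63,62,63,62,63],10,13⟩)) (.node (.leaf ⟨63,[60,63,61,63,61,61,62,63,62,63,61,63,61,63,62,63,62],12,10⟩) (.leaf ⟨63,[62,63,62,63,62,63,62,63,62,63,62,63,62,63,62],10,8⟩))))) (.node (.node (.node (.node (.leaf ⟨60,[62,60,62],3,0⟩) (.leaf ⟨63,[61,63,61,63,62,63,62,63,60,63,61,63,61,61,62,63,62],12,2⟩)) (.node (.leaf ⟨60,[63,61,63,60,63,61,63,60,63,61,63,60,63,61,63],8,15⟩) (.leaf ⟨60,[63,61,63,61,63,61,61,62,63,60,63,60,63,61,63,62,63],13,9⟩))) (.node (.node (.leaf ⟨60,[60,60,60],4,3⟩) (.leaf ⟨60,[63,61,63,60,63,61,63,60,63,61,63,60,63,61,63],8,11⟩))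 (.node (.leaf ⟨62,[63,62,63,61,62,60,63,60,60,63,60,60,63,61,61,62,63],11,1⟩) (.leaf ⟨63,[62,63,62,63,62,63,62,63,62,63,62,63,62,63,62],10,12⟩)))) (.node (.node (.node (.leaf ⟨60,[60,63,61,61,62,63,61,61,62,63,62,60,60,63,62],7,10⟩) (.leaf ⟨63,[60,63,62,63,60,63,62,63,61,63,62,63,61,63,62],9,6⟩)) (.node (.leaf ⟨63,[61,62,60,63,60,60,63,60,60,63,61,61,62,63,62,63,62],11,4⟩) (.leaf ⟨60,[63,61,63,62,63,60,63,61,63,61,63,61,61,62,63,60,63],13,3⟩))) (.node (.node (.leaf ⟨60,[63,62,63,61,63,62,63,61,63,62,63,60,63,62,63],9,11⟩) (.leaf ⟨62,[63,62,63,62,63,62,63,62,63,62,63,62,63,62,63],10,15⟩)) (.leaf ⟨63,[62,63,62,63,60,63,61,63,61,61,62,63,62,63,61,63,61],12,6⟩)))))) (.node (.node (.node (.node (.node (.node (.leaf ⟨61,[60],0,1⟩) (.leaf ⟨60,[63,61,63,61,61,62,63,62,63,61,63,61,63,62,63,62,63],12,11⟩)) (.node (.leaf ⟨61,[63,62,63,60,63,62,63,60,63,62,63,61,63,62,63],9,3⟩) (.leaf ⟨63,[61,63,60,63,61,63,60,63,61,63,60,63,61,63,60],8,8⟩)))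 (.node (.node (.leaf ⟨60,[63,62,60,60,63,61,61,62,63,61,61,62,63,62,60],7,7⟩) (.leaf ⟨63,[61,61,62,63,61,61,62,63,62,60,60,63,62,60,60],7,12⟩)) (.node (.leaf ⟨61,[62,60,63,60,60,63,60,60,63,61,61,62,63,62,63,62,63],11,5⟩) (.leaf ⟨63,[60,63,61,63,62,63,60,63,61,63,61,63,61,61,62,63,60],13,2⟩)))) (.node (.node (.node (.leaf ⟨60,[63,61,62,63,61,62,63,61,62,63,62],6,8⟩) (.leaf ⟨62,[63,61,63,61,63,62,63,62,63,60,63,61,63,61,61,62,63],12,1⟩)) (.node (.leaf ⟨60,[63,60,60,63,61,61,62,63,62,63,62,63,61,62,60,63,60],11,10⟩) (.leaf ⟨61,[63,62,63,60,63,61,63,61,63,61,61,62,63,60,63,60,63],13,5⟩))) (.node (.node (.leaf ⟨62,[63,61,61,62,63,62,60,60,63,62,60,60,63,61,61],7,15⟩) (.leaf ⟨61,[61,62,63,62,63,61,63,61,63,62,63,62,63,60,63,61,63],12,15⟩)) (.node (.leaf ⟨63,[60,63,62,63,61,63,62,63,61,63,62,63,60,63,62],9,10⟩) (.leaf ⟨63,[62,63,60,63,62,63,60,63,62,63,61,63,62,63,61],9,4⟩))))) (.node (.node (.node (.node (.leaf ⟨60,[60,60,60],4,2⟩)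 (.leaf ⟨61,[63,61,61,62,63,62,63,61,63,61,63,62,63,62,63,60,63],12,13⟩)) (.node (.leaf ⟨62,[63,62,63,62,63,62,63,62,63,62,63,62,63,62,63],10,7⟩) (.leaf ⟨63,[61,63,61,61,62,63,60,63,60,63,61,63,62,63,60,63,61],13,12⟩))) (.node (.node (.leaf ⟨62,[60,62,60],3,1⟩) (.leaf ⟨63,[60,60,63,61,61,62,63,62,63,62,63,61,62,60,63,60,60],11,11⟩)) (.node (.leaf ⟨62,[63,62,63,62,63,61,62,60,63,60,60,63,60,60,63,61,61],11,17⟩) (.leaf ⟨63,[60,63,61,63,60,63,61,63,60,63,61,63,60,63,61],8,14⟩)))) (.node (.node (.node (.leaf ⟨62,[63,61,62,63,61,62,63,62,60,63,61],6,11⟩) (.leaf ⟨63,[62,60,63,61,62,63,61,62,63,61,62],6,6⟩)) (.node (.leaf ⟨61,[61,62,63,62,63,62,63,61,62,60,63,60,60,63,60,60,63],11,15⟩) (.leaf ⟨63,[61,63,62,63,60,63,61,63,61,63,61,61,62,63,60,63,60],13,4⟩))) (.node (.node (.leaf ⟨60,[63,62,63,60,63,62,63,61,63,62,63,61,63,62,63],9,7⟩) (.leaf ⟨61,[63,60,63,61,63,60,63,61,63,60,63,61,63,60,63],8,5⟩)) (.leaf ⟨63,[61,63,61,61,62,63,62,63,61,63,61,63,62,63,62,63,60],12,12⟩)))))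 (.node (.node (.node (.node (.node (.leaf ⟨62,[62],2,1⟩) (.leaf ⟨63,[62,63,60,63,61,63,61,61,62,63,62,63,61,63,61,63,62],12,8⟩)) (.node (.leaf ⟨62,[63,61,63,62,63,60,63,62,63,60,63,62,63,61,63],9,1⟩) (.leaf ⟨63,[61,63,61,63,61,61,62,63,60,63,60,63,61,63,62,63,60],13,10⟩))) (.node (.node (.leaf ⟨61,[61,62,63,61,61,62,63,62,60,60,63,62,60,60,63],7,13⟩) (.leaf ⟨61,[62,63,61,62,63,62,60,63,61,62,63],6,1⟩)) (.node (.leaf ⟨63,[62,63,62,63,61,62,60,63,60,60,63,60,60,63,61,61,62],11,0⟩) (.leaf ⟨63,[60,63,60,63,61,63,62,63,60,63,61,63,61,63,61,61,62],13,0⟩)))) (.node (.node (.node (.leaf ⟨62,[63,61,62,63,62,60,63,61,62,63,61],6,2⟩) (.leaf ⟨63,[61,62,63,61,62,63,61,62,63,62,60],6,9⟩)) (.node (.leaf ⟨60,[63,61,61,62,63,62,63,62,63,61,62,60,63,60,60,63,60],11,13⟩) (.leaf ⟨63,[62,63,60,63,61,63,61,63,61,61,62,63,60,63,60,63,61],13,6⟩))) (.node (.node (.leaf ⟨60,[63,61,63,60,63,61,63,60,63,61,63,60,63,61,63],8,7⟩) (.leaf ⟨61,[61,62,63,62,60,60,63,62,60,60,63,61,61,62,63],7,1⟩))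 (.node (.leaf ⟨62,[63,62,63,60,63,61,63,61,61,62,63,62,63,61,63,61,63],12,7⟩) (.leaf ⟨63,[62,63,61,63,62,63,60,63,62,63,60,63,62,63,61],9,0⟩))))) (.node (.node (.node (.node (.leaf ⟨62,[60,63,61,62,63,61,62,63,61,62,63],6,7⟩) (.leaf ⟨61,[63,61,63,62,63,62,63,60,63,61,63,61,61,62,63,62,63],12,3⟩)) (.node (.leaf ⟨60,[60,63,60,60,63,61,61,62,63,62,63,62,63,61,62,60,63],11,9⟩) (.leaf ⟨61,[63,61,63,61,61,62,63,60,63,60,63,61,63,62,63,60,63],13,11⟩))) (.node (.node (.leaf ⟨60,[60,60,60],4,1⟩) (.leaf ⟨63,[62,63,62,63,62,63,62,63,62,63,62,63,62,63,62],10,4⟩)) (.node (.leaf ⟨63,[61,62,63,62,60,63,61,62,63,61,62],6,3⟩) (.leaf ⟨62,[63,62,63,62,63,62,63,62,63,62,63,62,63,62,63],10,11⟩)))) (.node (.node (.node (.leaf ⟨62,[60,60,63,61,61,62,63,61,61,62,63,62,60,60,63],7,9⟩) (.leaf ⟨63,[62,60,60,63,61,61,62,63,61,61,62,63,62,60,60],7,8⟩)) (.node (.leaf ⟨61,[62,63,62,63,62,63,61,62,60,63,60,60,63,60,60,63,61],11,16⟩) (.leaf ⟨61,[62,63,60,63,60,63,61,63,62,63,60,63,61,63,61,63,61],13,16⟩)))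 (.node (.node (.leaf ⟨62,[63,60,63,62,63,60,63,62,63,61,63,62,63,61,63],9,5⟩) (.leaf ⟨61,[63,60,63,61,63,60,63,61,63,60,63,61,63,60,63],8,1⟩)) (.leaf ⟨63,[61,61,62,63,62,63,61,63,61,63,62,63,62,63,60,63,61],12,14⟩)))))))
noncomputable def tp0 : TCL := ⟨[60,61,62,63], [60,61,62], 2048, 32, 0x1ffff, 17, 0x7f,
  fun a x => look 0xffffffff (nth tp0T 0 a) x, fun x => look 0xffffffff tp0d x, tp0r⟩
noncomputable def tp1T : List ℕ := [0,0,0,0,0,0,0,0,0,0,0,0,0,0,0,0,0,0,0,0,0,0,0,0,0,0,0,0,0,0,0,0,0,0,0,0,0,0,0,0,0,0,0,0,0,0,0,0,0,0,0,0,0,0,0,0,0,0,0,0,tp1t60,tp1t61,tp1t62]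
noncomputable def tp1r : Tr Rule := (.node (.node (.node (.leaf ⟨61,[60],0,1⟩) (.leaf ⟨60,[60,60,60],4,2⟩)) (.leaf ⟨62,[62],2,1⟩)) (.node (.node (.leaf ⟨60,[61],0,0⟩) (.leaf ⟨60,[60,60,60],4,3⟩)) (.leaf ⟨60,[62,60,62],3,2⟩)))
noncomputable def tp1 : TCL := ⟨[60,61,62], [], 8, 16, 0xff, 8, 0xf,
  fun a x => look 0xffff (nth tp1T 0 a) x, fun x => look 0xffff tp1d x, tp1r⟩
noncomputable def tp : List TCL := [tp0, tp1]
noncomputable def pS : List ℕ := [60,61,62,63]
noncomputable def pQ : List (List ℕ) := [[],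
  [61,63,62,60,63,61,63],
  [62,63,60,60,63,60,63],
  [63,62,63,62,63,62,63,62,61,63],
  [62,61,63,60,63,62,60,63],
  [63,60,63,60,63,61,63,62,60,63],
  [60,63,62,60,63,60,63,62,63],
  [60,63,60,63,60,63,60,63,61,63],
  [63,61,63,60,63,60,63],
  [63,60,63,61,63,61,63,62,63,60,63]]
noncomputable def pR : List (List ℕ) := [[60],
  [61],
  [62],
  [63]]
noncomputable def pF : List (List ℕ) := [[],
  [9,12,9,11,11,21,21,17,17,26,23,30,27,31,33,36,39,38,41]]
noncomputable def pU : List (List ℕ) := [[9,10,13,11,19,19,18,22,26,23,30,27,35,33,39,43]]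
noncomputable def aK : List ℕ := [8,78]
noncomputable def nK : List (List ℕ × ℕ) := [([],0),
  ([],8),
  ([],78),
  ([14,12,14,8,8,20,21,25,23,27,38,43],78),
  ([16,12,9,14,9,18,21,20,24,27,27,36,39,41],8),
  ([14,15,9,14,20,22,19,19,21,24,25,29,31,39,38,41],8),
  ([13,13,15,14,19,22,18,21,18,18,23,28,31,36,41,43],8),
  ([12,8,15,18,18,19,21,19,17,26,23,31,35,39,38,43],8),
  ([16,12,9,14,9,18,21,20,24,27,27,36,39,41],78),
  ([16,9,9,15,8,22,17,20,20,17,23,26,23,39,38],8),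
  ([14,15,9,14,20,22,19,19,21,24,25,29,31,39,38,41],78),
  ([16,10,13,11,8,20,18,18,25,30,27,35,33,36,39,41,43],78),
  ([13,13,15,14,19,22,18,21,18,18,23,28,31,36,41,43],78),
  ([13,9,12,9,18,21,19,18,29,27,31,43],8),
  ([12,8,15,18,18,19,21,19,17,26,23,31,35,39,38,43],78),
  ([14,8,8,21,19,18,20,23,30,27,31,35,33,36,39,38,41],78),
  ([14,12,14,8,8,20,21,25,23,27,38,43],8),
  ([13,10,16,12,18,22,17,22,23,29,27,31,35,39,43],78),
  ([16,9,9,15,8,22,17,20,20,17,23,26,23,39,38],78),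
  ([16,10,11,11,13,17,19,22,19,18,23,29,33,39],78),
  ([16,10,13,11,8,20,18,18,25,30,27,35,33,36,39,41,43],8),
  ([13,12,14,12,8,17,21,17,19,21,24,25,27,27,35,39,38,41,43],78),
  ([14,8,8,21,19,18,20,23,30,27,31,35,33,36,39,38,41],8),
  ([13,10,16,12,18,22,17,22,23,29,27,31,35,39,43],8),
  ([16,10,11,11,13,17,19,22,19,18,23,29,33,39],8),
  ([13,12,14,12,8,17,21,17,19,21,24,25,27,27,35,39,38,41,43],8),
  ([13,9,12,9,18,21,19,18,29,27,31,43],78),
  ([16,14,11,15,17,20,20,22,20,23,23,35,33,36,38,43],78),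
  ([16,14,11,15,17,20,20,22,20,23,23,35,33,36,38,43],8)]
noncomputable def rT : List (List ℕ × ℕ) := [([0,1,0,1,0,1],61616),
  ([0,1,0,1,0,1],48160),
  ([0,1,0,1,0,1],62032),
  ([0,0,0,1,0,0,0,1,0,0,0,1,0,0,0,1,0,0,0,1,0,0,0,1,0,0,0,1],31504),
  ([0,0,0,0,1,0,0,1,0,0,0,1,0,0,0,0,1,0,0,1,0,0,0,1,0,0,0,0,1,0,0,1,0,0,0,1,0,0,0,0,1,0,0,1,0,0,0,1,0,0,0,0,1,0,0,1,0,0,0,1,0,0,0,0,1,0,0,1,0,0,0,1,0,0,0,0,1,0,0,1,0,0,0,1],62544)]
noncomputable def uu : List (List ℕ) := [[],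
  [8],
  [8,8],
  [8,8,8],
  [8,8,8,8],
  [8,14,15,11,22,17,17,22,24,25,30,31,33,41],
  [8,16,12,14,8,20,18,22,17,25,27,31,41],
  [8,16,14,14,20,18,19,17,19,24,25,29,31,33,38,43],
  [9],
  [9,9],
  [9,9,14,15,11,22,17,17,22,24,25,30,31,33,41],
  [9,14,15,11,22,17,17,22,24,25,30,31,33,41],
  [9,16,9,9,22,19,17,20,18,24,25,28,31,35,33],
  [10,12,13,13,18,21,19,22,19,23,27,41],
  [10,15,11,14,22,17,17,24,30,35,39,38,41,43],
  [11,11,8,20,22,17,22,19,24,35,33,36,39,43],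
  [12,12,13,12,21,20,22,24,25,27,27,31,35,33,36,39,38],
  [12,16,12,15,9,20,17,22,19,23,25,28,31],
  [14,11,10,13,20,20,18,18,20,23,30,31,35,36,39],
  [14,12,8,8,13,18,21,19,22,19,23,27,41],
  [14,15,11,22,17,17,22,24,25,30,31,33,41],
  [15,10,12,8,8,21,19,17,20,23,26,23,30,27,35,39],
  [15,11,10,14,12,18,19,17,20,23,23,28,31,33,41,43],
  [15,14,12,10,11,21,21,17,21,21,25,23,29,27,33,39,38,43],
  [15,14,14,9,11,20,20,20,18,19,26,23,28,31,36,39,38,43],
  [16,9,9,22,19,17,20,18,24,25,28,31,35,33],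
  [16,11,15,10,8,19,21,21,17,22,27,27,31,36,38,41,43],
  [16,12,14,8,20,18,22,17,25,27,31,41],
  [16,14,14,20,18,19,17,19,24,25,29,31,33,38,43]]
noncomputable def wT : Tr ℕ := (.node (.node (.node (.node (.node (.node (.node (.node (.node (.node (.leaf w0) (.leaf w512)) (.leaf w256)) (.node (.leaf w128) (.leaf w384))) (.node (.node (.node (.leaf w64) (.leaf w576)) (.leaf w320)) (.node (.leaf w192) (.leaf w448)))) (.node (.node (.node (.node (.leaf w32) (.leaf w544)) (.leaf w288)) (.node (.leaf w160) (.leaf w416))) (.node (.node (.leaf w96) (.leaf w352)) (.node (.leaf w224) (.leaf w480))))) (.node (.node (.node (.node (.node (.leaf w16) (.leaf w528)) (.leaf w272)) (.node (.leaf w144) (.leaf w400))) (.node (.node (.leaf w80) (.leaf w336)) (.node (.leaf w208) (.leaf w464)))) (.node (.node (.node (.node (.leaf w48) (.leaf w560)) (.leaf w304)) (.node (.leaf w176) (.leaf w432))) (.node (.node (.leaf w112) (.leaf w368)) (.node (.leaf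 w240) (.leaf w496)))))) (.node (.node (.node (.node (.node (.node (.leaf w8) (.leaf w520)) (.leaf w264)) (.node (.leaf w136) (.leaf w392))) (.node (.node (.leaf w72) (.leaf w328)) (.node (.leaf w200) (.leaf w456)))) (.node (.node (.node (.node (.leaf w40) (.leaf w552)) (.leaf w296)) (.node (.leaf w168) (.leaf w424))) (.node (.node (.leaf w104) (.leaf w360)) (.node (.leaf w232) (.leaf w488))))) (.node (.node (.node (.node (.node (.leaf w24) (.leaf w536)) (.leaf w280)) (.node (.leaf w152) (.leaf w408))) (.node (.node (.leaf w88) (.leaf w344)) (.node (.leaf w216) (.leaf w472)))) (.node (.node (.node (.node (.leaf w56) (.leaf w568)) (.leaf w312)) (.node (.leaf w184) (.leaf w440))) (.node (.node (.leaf w120) (.leaf w376)) (.node (.leaf w248) (.leaf w504))))))) (.node (.node (.node (.node (.node (.node (.node (.leaf w4) (.leaf w516)) (.leaf w260)) (.node (.leaf w132) (.leaf w388))) (.node (.node (.leaf w68) (.leaf w324)) (.node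 (.leaf w196) (.leaf w452)))) (.node (.node (.node (.node (.leaf w36) (.leaf w548)) (.leaf w292)) (.node (.leaf w164) (.leaf w420))) (.node (.node (.leaf w100) (.leaf w356)) (.node (.leaf w228) (.leaf w484))))) (.node (.node (.node (.node (.node (.leaf w20) (.leaf w532)) (.leaf w276)) (.node (.leaf w148) (.leaf w404))) (.node (.node (.leaf w84) (.leaf w340)) (.node (.leaf w212) (.leaf w468)))) (.node (.node (.node (.node (.leaf w52) (.leaf w564)) (.leaf w308)) (.node (.leaf w180) (.leaf w436))) (.node (.node (.leaf w116) (.leaf w372)) (.node (.leaf w244) (.leaf w500)))))) (.node (.node (.node (.node (.node (.node (.leaf w12) (.leaf w524)) (.leaf w268)) (.node (.leaf w140) (.leaf w396))) (.node (.node (.leaf w76) (.leaf w332)) (.node (.leaf w204) (.leaf w460)))) (.node (.node (.node (.node (.leaf w44) (.leaf w556)) (.leaf w300)) (.node (.leaf w172) (.leaf w428))) (.node (.node (.leaf w108) (.leaf w364)) (.node (.leaf w236)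 (.leaf w492))))) (.node (.node (.node (.node (.node (.leaf w28) (.leaf w540)) (.leaf w284)) (.node (.leaf w156) (.leaf w412))) (.node (.node (.leaf w92) (.leaf w348)) (.node (.leaf w220) (.leaf w476)))) (.node (.node (.node (.node (.leaf w60) (.leaf w572)) (.leaf w316)) (.node (.leaf w188) (.leaf w444))) (.node (.node (.leaf w124) (.leaf w380)) (.node (.leaf w252) (.leaf w508)))))))) (.node (.node (.node (.node (.node (.node (.node (.node (.leaf w2) (.leaf w514)) (.leaf w258)) (.node (.leaf w130) (.leaf w386))) (.node (.node (.node (.leaf w66) (.leaf w578)) (.leaf w322)) (.node (.leaf w194) (.leaf w450)))) (.node (.node (.node (.node (.leaf w34) (.leaf w546)) (.leaf w290)) (.node (.leaf w162) (.leaf w418))) (.node (.node (.leaf w98) (.leaf w354)) (.node (.leaf w226) (.leaf w482))))) (.node (.node (.node (.node (.node (.leaf w18) (.leaf w530)) (.leaf w274)) (.node (.leaf w146) (.leaf w402))) (.node (.node (.leaf w82) (.leaf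 w338)) (.node (.leaf w210) (.leaf w466)))) (.node (.node (.node (.node (.leaf w50) (.leaf w562)) (.leaf w306)) (.node (.leaf w178) (.leaf w434))) (.node (.node (.leaf w114) (.leaf w370)) (.node (.leaf w242) (.leaf w498)))))) (.node (.node (.node (.node (.node (.node (.leaf w10) (.leaf w522)) (.leaf w266)) (.node (.leaf w138) (.leaf w394))) (.node (.node (.leaf w74) (.leaf w330)) (.node (.leaf w202) (.leaf w458)))) (.node (.node (.node (.node (.leaf w42) (.leaf w554)) (.leaf w298)) (.node (.leaf w170) (.leaf w426))) (.node (.node (.leaf w106) (.leaf w362)) (.node (.leaf w234) (.leaf w490))))) (.node (.node (.node (.node (.node (.leaf w26) (.leaf w538)) (.leaf w282)) (.node (.leaf w154) (.leaf w410))) (.node (.node (.leaf w90) (.leaf w346)) (.node (.leaf w218) (.leaf w474)))) (.node (.node (.node (.node (.leaf w58) (.leaf w570)) (.leaf w314)) (.node (.leaf w186) (.leaf w442))) (.node (.node (.leaf w122) (.leaf w378)) (.node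 (.leaf w250) (.leaf w506))))))) (.node (.node (.node (.node (.node (.node (.node (.leaf w6) (.leaf w518)) (.leaf w262)) (.node (.leaf w134) (.leaf w390))) (.node (.node (.leaf w70) (.leaf w326)) (.node (.leaf w198) (.leaf w454)))) (.node (.node (.node (.node (.leaf w38) (.leaf w550)) (.leaf w294)) (.node (.leaf w166) (.leaf w422))) (.node (.node (.leaf w102) (.leaf w358)) (.node (.leaf w230) (.leaf w486))))) (.node (.node (.node (.node (.node (.leaf w22) (.leaf w534)) (.leaf w278)) (.node (.leaf w150) (.leaf w406))) (.node (.node (.leaf w86) (.leaf w342)) (.node (.leaf w214) (.leaf w470)))) (.node (.node (.node (.node (.leaf w54) (.leaf w566)) (.leaf w310)) (.node (.leaf w182) (.leaf w438))) (.node (.node (.leaf w118) (.leaf w374)) (.node (.leaf w246) (.leaf w502)))))) (.node (.node (.node (.node (.node (.node (.leaf w14) (.leaf w526)) (.leaf w270)) (.node (.leaf w142) (.leaf w398))) (.node (.node (.leaf w78) (.leaf w334))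 (.node (.leaf w206) (.leaf w462)))) (.node (.node (.node (.node (.leaf w46) (.leaf w558)) (.leaf w302)) (.node (.leaf w174) (.leaf w430))) (.node (.node (.leaf w110) (.leaf w366)) (.node (.leaf w238) (.leaf w494))))) (.node (.node (.node (.node (.node (.leaf w30) (.leaf w542)) (.leaf w286)) (.node (.leaf w158) (.leaf w414))) (.node (.node (.leaf w94) (.leaf w350)) (.node (.leaf w222) (.leaf w478)))) (.node (.node (.node (.node (.leaf w62) (.leaf w574)) (.leaf w318)) (.node (.leaf w190) (.leaf w446))) (.node (.node (.leaf w126) (.leaf w382)) (.node (.leaf w254) (.leaf w510))))))))) (.node (.node (.node (.node (.node (.node (.node (.node (.node (.leaf w1) (.leaf w513)) (.leaf w257)) (.node (.leaf w129) (.leaf w385))) (.node (.node (.node (.leaf w65) (.leaf w577)) (.leaf w321)) (.node (.leaf w193) (.leaf w449)))) (.node (.node (.node (.node (.leaf w33) (.leaf w545)) (.leaf w289)) (.node (.leaf w161) (.leaf w417))) (.node (.node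 (.leaf w97) (.leaf w353)) (.node (.leaf w225) (.leaf w481))))) (.node (.node (.node (.node (.node (.leaf w17) (.leaf w529)) (.leaf w273)) (.node (.leaf w145) (.leaf w401))) (.node (.node (.leaf w81) (.leaf w337)) (.node (.leaf w209) (.leaf w465)))) (.node (.node (.node (.node (.leaf w49) (.leaf w561)) (.leaf w305)) (.node (.leaf w177) (.leaf w433))) (.node (.node (.leaf w113) (.leaf w369)) (.node (.leaf w241) (.leaf w497)))))) (.node (.node (.node (.node (.node (.node (.leaf w9) (.leaf w521)) (.leaf w265)) (.node (.leaf w137) (.leaf w393))) (.node (.node (.leaf w73) (.leaf w329)) (.node (.leaf w201) (.leaf w457)))) (.node (.node (.node (.node (.leaf w41) (.leaf w553)) (.leaf w297)) (.node (.leaf w169) (.leaf w425))) (.node (.node (.leaf w105) (.leaf w361)) (.node (.leaf w233) (.leaf w489))))) (.node (.node (.node (.node (.node (.leaf w25) (.leaf w537)) (.leaf w281)) (.node (.leaf w153) (.leaf w409))) (.node (.node (.leaf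 w89) (.leaf w345)) (.node (.leaf w217) (.leaf w473)))) (.node (.node (.node (.node (.leaf w57) (.leaf w569)) (.leaf w313)) (.node (.leaf w185) (.leaf w441))) (.node (.node (.leaf w121) (.leaf w377)) (.node (.leaf w249) (.leaf w505))))))) (.node (.node (.node (.node (.node (.node (.node (.leaf w5) (.leaf w517)) (.leaf w261)) (.node (.leaf w133) (.leaf w389))) (.node (.node (.leaf w69) (.leaf w325)) (.node (.leaf w197) (.leaf w453)))) (.node (.node (.node (.node (.leaf w37) (.leaf w549)) (.leaf w293)) (.node (.leaf w165) (.leaf w421))) (.node (.node (.leaf w101) (.leaf w357)) (.node (.leaf w229) (.leaf w485))))) (.node (.node (.node (.node (.node (.leaf w21) (.leaf w533)) (.leaf w277)) (.node (.leaf w149) (.leaf w405))) (.node (.node (.leaf w85) (.leaf w341)) (.node (.leaf w213) (.leaf w469)))) (.node (.node (.node (.node (.leaf w53) (.leaf w565)) (.leaf w309)) (.node (.leaf w181) (.leaf w437))) (.node (.node (.leaf w117) (.leaf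 w373)) (.node (.leaf w245) (.leaf w501)))))) (.node (.node (.node (.node (.node (.node (.leaf w13) (.leaf w525)) (.leaf w269)) (.node (.leaf w141) (.leaf w397))) (.node (.node (.leaf w77) (.leaf w333)) (.node (.leaf w205) (.leaf w461)))) (.node (.node (.node (.node (.leaf w45) (.leaf w557)) (.leaf w301)) (.node (.leaf w173) (.leaf w429))) (.node (.node (.leaf w109) (.leaf w365)) (.node (.leaf w237) (.leaf w493))))) (.node (.node (.node (.node (.node (.leaf w29) (.leaf w541)) (.leaf w285)) (.node (.leaf w157) (.leaf w413))) (.node (.node (.leaf w93) (.leaf w349)) (.node (.leaf w221) (.leaf w477)))) (.node (.node (.node (.node (.leaf w61) (.leaf w573)) (.leaf w317)) (.node (.leaf w189) (.leaf w445))) (.node (.node (.leaf w125) (.leaf w381)) (.node (.leaf w253) (.leaf w509)))))))) (.node (.node (.node (.node (.node (.node (.node (.node (.leaf w3) (.leaf w515)) (.leaf w259)) (.node (.leaf w131) (.leaf w387))) (.node (.node (.node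 (.leaf w67) (.leaf w579)) (.leaf w323)) (.node (.leaf w195) (.leaf w451)))) (.node (.node (.node (.node (.leaf w35) (.leaf w547)) (.leaf w291)) (.node (.leaf w163) (.leaf w419))) (.node (.node (.leaf w99) (.leaf w355)) (.node (.leaf w227) (.leaf w483))))) (.node (.node (.node (.node (.node (.leaf w19) (.leaf w531)) (.leaf w275)) (.node (.leaf w147) (.leaf w403))) (.node (.node (.leaf w83) (.leaf w339)) (.node (.leaf w211) (.leaf w467)))) (.node (.node (.node (.node (.leaf w51) (.leaf w563)) (.leaf w307)) (.node (.leaf w179) (.leaf w435))) (.node (.node (.leaf w115) (.leaf w371)) (.node (.leaf w243) (.leaf w499)))))) (.node (.node (.node (.node (.node (.node (.leaf w11) (.leaf w523)) (.leaf w267)) (.node (.leaf w139) (.leaf w395))) (.node (.node (.leaf w75) (.leaf w331)) (.node (.leaf w203) (.leaf w459)))) (.node (.node (.node (.node (.leaf w43) (.leaf w555)) (.leaf w299)) (.node (.leaf w171) (.leaf w427))) (.node (.node (.leaf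 w107) (.leaf w363)) (.node (.leaf w235) (.leaf w491))))) (.node (.node (.node (.node (.node (.leaf w27) (.leaf w539)) (.leaf w283)) (.node (.leaf w155) (.leaf w411))) (.node (.node (.leaf w91) (.leaf w347)) (.node (.leaf w219) (.leaf w475)))) (.node (.node (.node (.node (.leaf w59) (.leaf w571)) (.leaf w315)) (.node (.leaf w187) (.leaf w443))) (.node (.node (.leaf w123) (.leaf w379)) (.node (.leaf w251) (.leaf w507))))))) (.node (.node (.node (.node (.node (.node (.node (.leaf w7) (.leaf w519)) (.leaf w263)) (.node (.leaf w135) (.leaf w391))) (.node (.node (.leaf w71) (.leaf w327)) (.node (.leaf w199) (.leaf w455)))) (.node (.node (.node (.node (.leaf w39) (.leaf w551)) (.leaf w295)) (.node (.leaf w167) (.leaf w423))) (.node (.node (.leaf w103) (.leaf w359)) (.node (.leaf w231) (.leaf w487))))) (.node (.node (.node (.node (.node (.leaf w23) (.leaf w535)) (.leaf w279)) (.node (.leaf w151) (.leaf w407))) (.node (.node (.leaf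 w87) (.leaf w343)) (.node (.leaf w215) (.leaf w471)))) (.node (.node (.node (.node (.leaf w55) (.leaf w567)) (.leaf w311)) (.node (.leaf w183) (.leaf w439))) (.node (.node (.leaf w119) (.leaf w375)) (.node (.leaf w247) (.leaf w503)))))) (.node (.node (.node (.node (.node (.node (.leaf w15) (.leaf w527)) (.leaf w271)) (.node (.leaf w143) (.leaf w399))) (.node (.node (.leaf w79) (.leaf w335)) (.node (.leaf w207) (.leaf w463)))) (.node (.node (.node (.node (.leaf w47) (.leaf w559)) (.leaf w303)) (.node (.leaf w175) (.leaf w431))) (.node (.node (.leaf w111) (.leaf w367)) (.node (.leaf w239) (.leaf w495))))) (.node (.node (.node (.node (.node (.leaf w31) (.leaf w543)) (.leaf w287)) (.node (.leaf w159) (.leaf w415))) (.node (.node (.leaf w95) (.leaf w351)) (.node (.leaf w223) (.leaf w479)))) (.node (.node (.node (.node (.leaf w63) (.leaf w575)) (.leaf w319)) (.node (.leaf w191) (.leaf w447))) (.node (.node (.leaf w127) (.leaf w383))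 (.node (.leaf w255) (.leaf w511))))))))))
noncomputable def en : Enum := ⟨inv, 8, 255, 4, fun i => force (Nat.shiftRight i 10) fun c => look 0xffffffff (wT.get c) (Nat.mul 32 (Nat.land i 1023)), 10, [47536,59168,44896,53120], 65536⟩
noncomputable def tst : (ℕ → ℕ) → Bool := outTest (appT tabs t80 0xffff) bs aK rT [(8, 10)] uu

end Cfsg.Agent.CG.Ru
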