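import Cfsg.Agent.Lib.Grp.Ru.OC0
import Cfsg.Agent.Lib.Grp.Ru.OC1
import Cfsg.Agent.Lib.Grp.Ru.OC2
import Cfsg.Agent.Lib.Grp.Ru.OC3
import Cfsg.Agent.Lib.Grp.Ru.OC4
import Cfsg.Agent.Lib.Grp.Ru.Main

set_option autoImplicit false
set_option maxRecDepth 100000
set_option Elab.async false

namespace Cfsg.Agent.CG.Ru

theorem chainC : ChainOK act cc [] :=
  chainOK_of_chk act cc [] (by simp) (okc_of_okcb Oc220) Oc221
  (allL_cons Oc216 (allL_cons Oc217 (allL_cons Oc218 (allL_cons Oc219 (allL_nil _)))))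

theorem chainP : ChainOK act pc [] :=
  chainOK_of_chk act pc [] (by simp) (okc_of_okcb Oc229) Oc230
  (allL_cons Oc227 (allL_cons Oc228 (allL_nil _)))

theorem boundsP : Bounds tpR pS (2 ^ 14) :=
  (show prodTC tp = 2 ^ 14 by decide +kernel) ▸ bounds_of_chain Oc226
  (allL_cons Oc222 (allL_cons Oc224 (allL_nil _)))
  (allL_cons Oc223 (allL_cons Oc225 (allL_nil _)))

theorem cardP : Nat.card (cl act.gen pS) = 2 ^ 14 :=
  card_cl_eq chainP (by decide +kernel) boundsP (base.rels Oc231) (by decide +kernel)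

theorem centP : ∀ g ∈ Subgroup.centralizer (cl act.gen pS : Set PG), ∃ φ ∈ pF, g = ev act.gen φ :=
  centralizer_subset (l := mc0) (L := [mc1, mc2, mc3, mc4, mc5, mc6, mc7, mc8, mc9]) chain card_le base (Q := pQ) (Rf := pR) (by decide +kernel) (by decide +kernel) (by decide +kernel)
    (show trChk (appT tabs t80 0xffff) mc0 [mc1, mc2, mc3, mc4, mc5, mc6, mc7, mc8, mc9] bs (diagQ pQ) (diagQ pR) pF 0 4060 = true from (trChk_append Oc232 Oc233))

theorem autT (φ : MulAut PG) : ∃ g : PG, φ (act.gen 10) = g * act.gen 10 * g⁻¹ :=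
  aut_class base (r := 2) (by norm_num) cardP (not_dvd_of_eq card (by decide +kernel)) centP
    Oc234 φ

theorem autA (φ : MulAut PG) : ∃ g : PG, ∃ a' ∈ aK, g * φ (act.gen 8) * g⁻¹ = act.gen a' :=
  aut_pow base (p := 29) (by norm_num) (not_dvd_of_eq card (by decide +kernel))
    Oc235 φ

theorem enumOK : en.OK app tst 0 593775 0 18280225444901970273 :=
  (Enum.OK.append (Enum.OK.append (Enum.OK.append (Enum.OK.append (Enum.OK.append (Enum.OK.append (Enum.OK.append (Enum.OK.append (Enum.OK.append (Enum.OK.append (Enum.OK.append (Enum.OK.append (Enum.OK.append (Enum.OK.append (Enum.OK.append (Enum.OK.append (Enum.OK.append (Enum.OK.append (Enum.OK.append (Enum.OK.append (Enum.OK.append (Enum.OK.append (Enum.OK.append (Enum.OK.append (Enum.OK.append (Enum.OK.append (Enum.OK.append (Enum.OK.append (Enum.OK.append (Enum.OK.append (Enum.OK.append (Enum.OK.append (Enum.OK.append (Enum.OK.append (Enum.OK.append (Enum.OK.append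 (Enum.OK.append (Enum.OK.append (Enum.OK.append (Enum.OK.append (Enum.OK.append (Enum.OK.append (Enum.OK.append (Enum.OK.append (Enum.OK.append (Enum.OK.append (Enum.OK.append (Enum.OK.append (Enum.OK.append (Enum.OK.append (Enum.OK.append (Enum.OK.append (Enum.OK.append (Enum.OK.append (Enum.OK.append (Enum.OK.append (Enum.OK.append (Enum.OK.append (Enum.OK.append (Enum.OK.append (Enum.OK.append (Enum.OK.append (Enum.OK.append (Enum.OK.append (Enum.OK.append (Enum.OK.append (Enum.OK.append (Enum.OK.append (Enum.OK.append (Enum.OK.append (Enum.OK.append (Enum.OK.append (Enum.OK.append (Enum.OK.append (Enum.OK.append (Enum.OK.append (Enum.OK.append (Enum.OK.append (Enum.OK.append (Enum.OK.append (Enum.OK.append (Enum.OK.append (Enum.OK.append (Enum.OK.append (Enum.OK.append (Enum.OK.append (Enum.OK.append (Enum.OK.append (Enum.OK.append (Enum.OK.append (Enum.OK.append (Enum.OK.append (Enum.OK.append (Enum.OK.append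 (Enum.OK.append (Enum.OK.append (Enum.OK.append (Enum.OK.append (Enum.OK.append (Enum.OK.append (Enum.OK.append (Enum.OK.append (Enum.OK.append (Enum.OK.append (Enum.OK.append (Enum.OK.append (Enum.OK.append (Enum.OK.append (Enum.OK.append (Enum.OK.append (Enum.OK.append (Enum.OK.append (Enum.OK.append (Enum.OK.append (Enum.OK.append (Enum.OK.append (Enum.OK.append (Enum.OK.append (Enum.ok_of_chk Oc236)
  (Enum.ok_of_chk Oc237))
  (Enum.ok_of_chk Oc238))
  (Enum.ok_of_chk Oc239))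
  (Enum.ok_of_chk Oc240))
  (Enum.ok_of_chk Oc241))
  (Enum.ok_of_chk Oc242))
  (Enum.ok_of_chk Oc243))
  (Enum.ok_of_chk Oc244))
  (Enum.ok_of_chk Oc245))
  (Enum.ok_of_chk Oc246))
  (Enum.ok_of_chk Oc247))
  (Enum.ok_of_chk Oc248))
  (Enum.ok_of_chk Oc249))
  (Enum.ok_of_chk Oc250))
  (Enum.ok_of_chk Oc251))
  (Enum.ok_of_chk Oc252))
  (Enum.ok_of_chk Oc253))
  (Enum.ok_of_chk Oc254))
  (Enum.ok_of_chk Oc255))
  (Enum.ok_of_chk Oc256))
  (Enum.ok_of_chk Oc257))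
  (Enum.ok_of_chk Oc258))
  (Enum.ok_of_chk Oc259))
  (Enum.ok_of_chk Oc260))
  (Enum.ok_of_chk Oc261))
  (Enum.ok_of_chk Oc262))
  (Enum.ok_of_chk Oc263))
  (Enum.ok_of_chk Oc264))
  (Enum.ok_of_chk Oc265))
  (Enum.ok_of_chk Oc266))
  (Enum.ok_of_chk Oc267))
  (Enum.ok_of_chk Oc268))
  (Enum.ok_of_chk Oc269))
  (Enum.ok_of_chk Oc270))
  (Enum.ok_of_chk Oc271))
  (Enum.ok_of_chk Oc272))
  (Enum.ok_of_chk Oc273))
  (Enum.ok_of_chk Oc274))
  (Enum.ok_of_chk Oc275))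
  (Enum.ok_of_chk Oc276))
  (Enum.ok_of_chk Oc277))
  (Enum.ok_of_chk Oc278))
  (Enum.ok_of_chk Oc279))
  (Enum.ok_of_chk Oc280))
  (Enum.ok_of_chk Oc281))
  (Enum.ok_of_chk Oc282))
  (Enum.ok_of_chk Oc283))
  (Enum.ok_of_chk Oc284))
  (Enum.ok_of_chk Oc285))
  (Enum.ok_of_chk Oc286))
  (Enum.ok_of_chk Oc287))
  (Enum.ok_of_chk Oc288))
  (Enum.ok_of_chk Oc289))
  (Enum.ok_of_chk Oc290))
  (Enum.ok_of_chk Oc291))
  (Enum.ok_of_chk Oc292))
  (Enum.ok_of_chk Oc293))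
  (Enum.ok_of_chk Oc294))
  (Enum.ok_of_chk Oc295))
  (Enum.ok_of_chk Oc296))
  (Enum.ok_of_chk Oc297))
  (Enum.ok_of_chk Oc298))
  (Enum.ok_of_chk Oc299))
  (Enum.ok_of_chk Oc300))
  (Enum.ok_of_chk Oc301))
  (Enum.ok_of_chk Oc302))
  (Enum.ok_of_chk Oc303))
  (Enum.ok_of_chk Oc304))
  (Enum.ok_of_chk Oc305))
  (Enum.ok_of_chk Oc306))
  (Enum.ok_of_chk Oc307))
  (Enum.ok_of_chk Oc308))
  (Enum.ok_of_chk Oc309))
  (Enum.ok_of_chk Oc310))
  (Enum.ok_of_chk Oc311))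
  (Enum.ok_of_chk Oc312))
  (Enum.ok_of_chk Oc313))
  (Enum.ok_of_chk Oc314))
  (Enum.ok_of_chk Oc315))
  (Enum.ok_of_chk Oc316))
  (Enum.ok_of_chk Oc317))
  (Enum.ok_of_chk Oc318))
  (Enum.ok_of_chk Oc319))
  (Enum.ok_of_chk Oc320))
  (Enum.ok_of_chk Oc321))
  (Enum.ok_of_chk Oc322))
  (Enum.ok_of_chk Oc323))
  (Enum.ok_of_chk Oc324))
  (Enum.ok_of_chk Oc325))
  (Enum.ok_of_chk Oc326))
  (Enum.ok_of_chk Oc327))
  (Enum.ok_of_chk Oc328))
  (Enum.ok_of_chk Oc329))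
  (Enum.ok_of_chk Oc330))
  (Enum.ok_of_chk Oc331))
  (Enum.ok_of_chk Oc332))
  (Enum.ok_of_chk Oc333))
  (Enum.ok_of_chk Oc334))
  (Enum.ok_of_chk Oc335))
  (Enum.ok_of_chk Oc336))
  (Enum.ok_of_chk Oc337))
  (Enum.ok_of_chk Oc338))
  (Enum.ok_of_chk Oc339))
  (Enum.ok_of_chk Oc340))
  (Enum.ok_of_chk Oc341))
  (Enum.ok_of_chk Oc342))
  (Enum.ok_of_chk Oc343))
  (Enum.ok_of_chk Oc344))
  (Enum.ok_of_chk Oc345))
  (Enum.ok_of_chk Oc346))
  (Enum.ok_of_chk Oc347))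
  (Enum.ok_of_chk Oc348))
  (Enum.ok_of_chk Oc349))
  (Enum.ok_of_chk Oc350))
  (Enum.ok_of_chk Oc351))
  (Enum.ok_of_chk Oc352))
  (Enum.ok_of_chk Oc353))
  (Enum.ok_of_chk Oc354))

theorem cent_le : prodN cc ≤ Nat.card (Subgroup.centralizer {act.gen 10}) :=
  le_card_centralizer base chainC Oc355

theorem classAll (g : PG) : ∃ f, act.Rep (g * act.gen 10 * g⁻¹) f ∧ tst f = true :=
  Enum.OK.all (A := act) (E := en) enumOK hinv (okc_of_okcb (n := 4060) (w := 16) (by decide +kernel)) cent_le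
    (card ▸ (ble_iff _ _).1 (by decide +kernel)) g

theorem autPair (φ : MulAut PG) : ∃ s ∈ [(8, 10)], ∃ g : PG, φ (act.gen 8) = g * act.gen s.1 * g⁻¹ ∧ φ (act.gen 10) = g * act.gen s.2 * g⁻¹ :=
  aut_pair base Oc356 (okc_of_okcb (n := 4060) (w := 16) (by decide +kernel)) autA autT classAll φ

theorem card_out : Nat.card (Out PG) = 1 := card_out_eq_one clAT autPair

end Cfsg.Agent.CG.Ru
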